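import Groth.Agent.Lib.RegLoc.Basic
import Mathlib.RingTheory.Ideal.Quotient.Operations

/-!
# Regular quotients of regular local rings are cut out by part of a regular system of parameters
-/

open IsLocalRing Ideal

namespace Groth.Agent.RegLoc

universe u

lemma spanFinrank_eq_of_dim {R : Type u} [CommRing R] [IsRegularLocalRing R] {d : ℕ}
    (hd : ringKrullDim R = d) : (maximalIdeal R).spanFinrank = d := by
  have := IsRegularLocalRing.spanFinrank_maximalIdeal (R := R)
  rw [hd] at this
  exact_mod_cast this

lemma exists_fin_generators (R : Type u) [CommRing R] [IsLocalRing R] [IsNoetherianRing R] :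
    ∃ x : Fin (maximalIdeal R).spanFinrank → R, span (Set.range x) = maximalIdeal R := by
  have hfg := IsNoetherian.noetherian (maximalIdeal R)
  have hfin := Submodule.FG.finite_generators hfg
  have hcard : hfin.toFinset.card = (maximalIdeal R).spanFinrank := by
    rw [← Submodule.FG.generators_ncard hfg, Set.ncard_eq_toFinset_card _ hfin]
  refine ⟨fun i => ((hfin.toFinset.equivFinOfCardEq hcard).symm i : R), ?_⟩
  have he : Set.range (fun i => ((hfin.toFinset.equivFinOfCardEq hcard).symm i : R)) = (maximalIdeal R).generators := by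
    ext z
    refine ⟨fun ⟨i, hi⟩ => ?_, fun hz => ?_⟩
    · rw [← hi, ← hfin.mem_toFinset]
      exact Subtype.prop _
    · exact ⟨hfin.toFinset.equivFinOfCardEq hcard ⟨z, hfin.mem_toFinset.2 hz⟩, by simp⟩
  rw [he]
  exact (maximalIdeal R).span_generators

/-- Lifting generators of the maximal ideal of `R/I`. -/
lemma maximalIdeal_eq_sup_span {R : Type u} [CommRing R] [IsLocalRing R] {I : Ideal R} [IsLocalRing (R ⧸ I)]
    {ι : Type*} (x : ι → R) (hx : span (Set.range (Ideal.Quotient.mk I ∘ x)) = maximalIdeal (R ⧸ I))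
    (hI : I ≤ maximalIdeal R) : maximalIdeal R = span (Set.range x) ⊔ I := by
  have h1 : (span (Set.range x)).map (Ideal.Quotient.mk I) = (maximalIdeal R).map (Ideal.Quotient.mk I) := by
    rw [map_span, ← Set.range_comp, hx, maximalIdeal_quotient]
  have h2 := congrArg (Ideal.comap (Ideal.Quotient.mk I)) h1
  rw [comap_map_of_surjective _ Ideal.Quotient.mk_surjective, comap_map_of_surjective _ Ideal.Quotient.mk_surjective] at h2
  change _ ⊔ RingHom.ker _ = _ ⊔ RingHom.ker _ at h2
  rw [mk_ker, sup_eq_left.2 hI] at h2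
  exact h2.symm

/-- A nonzero ideal with regular quotient is not contained in `m ^ 2`. -/
lemma not_le_sq {R : Type u} [CommRing R] [IsRegularLocalRing R] {I : Ideal R} [IsRegularLocalRing (R ⧸ I)]
    (hne : I ≠ ⊥) : ¬ I ≤ maximalIdeal R ^ 2 := by
  classical
  intro hle
  have hI : I ≤ maximalIdeal R := le_maximalIdeal (Ideal.Quotient.nontrivial_iff.1 inferInstance)
  obtain ⟨x, hx⟩ := exists_fin_generators (R ⧸ I)
  choose y hy using fun i => Ideal.Quotient.mk_surjective (x i)
  have hsup := maximalIdeal_eq_sup_span y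
    (by rw [show Ideal.Quotient.mk I ∘ y = x from funext hy]; exact hx) hI
  have h2 : maximalIdeal R ≤ span (Set.range y) ⊔ maximalIdeal R • maximalIdeal R := by
    conv_lhs => rw [hsup]
    exact sup_le_sup_left (hle.trans (by rw [smul_eq_mul, pow_two])) _
  have h3 := Submodule.le_of_le_smul_of_le_jacobson_bot (IsNoetherian.noetherian _) (maximalIdeal_le_jacobson _) h2
  have h4 : (maximalIdeal R).spanFinrank ≤ (maximalIdeal (R ⧸ I)).spanFinrank := by
    rw [le_antisymm h3 (hsup ▸ le_sup_left), ← Set.image_univ]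
    refine (Submodule.spanFinrank_span_le_ncard_of_finite (Set.finite_univ.image _)).trans
      ((Set.ncard_image_le Set.finite_univ).trans ?_)
    simp [Set.ncard_univ]
  obtain ⟨z, hz, hz0⟩ := Submodule.exists_mem_ne_zero_of_ne_bot hne
  haveI := isDomain R
  obtain ⟨k, hk⟩ := exists_dim_eq_nat (R := R)
  haveI : IsLocalRing (R ⧸ span ({z} : Set R)) := isLocalRing_quotient
    (ne_top_of_le_ne_top (maximalIdeal.isMaximal R).ne_top ((span_singleton_le_iff_mem _).2 (hI hz)))
  obtain ⟨l, hl⟩ := exists_dim_eq_nat (R := R ⧸ span ({z} : Set R))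
  have h5 := ringKrullDim_quotient_span_singleton_succ_eq_ringKrullDim_of_mem_nonZeroDivisors
    (mem_nonZeroDivisors_of_ne_zero hz0) (hI hz)
  have h6 : ringKrullDim (R ⧸ I) ≤ ringKrullDim (R ⧸ span ({z} : Set R)) :=
    ringKrullDim_le_of_surjective (Ideal.Quotient.factor ((span_singleton_le_iff_mem _).2 hz))
      (Ideal.Quotient.factor_surjective _)
  rw [← IsRegularLocalRing.spanFinrank_maximalIdeal, hl] at h6
  rw [hl, hk] at h5
  have h7 := spanFinrank_eq_of_dim hk
  have h5' : l + 1 = k := by exact_mod_cast h5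
  have h6' : (maximalIdeal (R ⧸ I)).spanFinrank ≤ l := by exact_mod_cast h6
  omega

theorem exists_generators_of_regular_quotient : ∀ (d : ℕ) (R : Type u) [CommRing R] [IsRegularLocalRing R]
    (I : Ideal R) [IsRegularLocalRing (R ⧸ I)], (maximalIdeal R).spanFinrank = d →
    ∃ (x : Fin d → R) (c : ℕ) (hc : c ≤ d), span (Set.range x) = maximalIdeal R ∧
      I = span (Set.range (fun i : Fin c => x (Fin.castLE hc i))) := by
  intro d
  induction d with
  | zero =>
    intro R _ _ I _ hd
    have hI : I ≤ maximalIdeal R := le_maximalIdeal (Ideal.Quotient.nontrivial_iff.1 inferInstance)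
    have hm : maximalIdeal R = ⊥ :=
      isField_iff_maximalIdeal_eq.1 (spanFinrank_maximalIdeal_eq_zero_iff.1 hd)
    exact ⟨Fin.elim0, 0, le_rfl, by rw [hm]; simp, by rw [le_bot_iff.1 (hI.trans hm.le)]; simp⟩
  | succ d ih =>
    intro R _ _ I _ hd
    have hI : I ≤ maximalIdeal R := le_maximalIdeal (Ideal.Quotient.nontrivial_iff.1 inferInstance)
    by_cases hI0 : I = ⊥
    · obtain ⟨x, hx⟩ := exists_fin_generators R
      refine ⟨x ∘ Fin.cast hd.symm, 0, Nat.zero_le _, ?_, by simp [hI0]⟩
      exact (congrArg span ((finCongr hd.symm).surjective.range_comp x)).trans hx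
    · obtain ⟨z, hz, hz2⟩ := SetLike.not_le_iff_exists.1 (not_le_sq hI0)
      obtain ⟨_, hq⟩ := quotient_span_singleton (hI hz) hz2
      let K := span ({z} : Set R)
      have hK : K ≤ I := (span_singleton_le_iff_mem _).2 hz
      haveI : IsRegularLocalRing ((R ⧸ K) ⧸ I.map (Ideal.Quotient.mk K)) :=
        IsRegularLocalRing.of_ringEquiv (DoubleQuot.quotQuotEquivQuotOfLE hK).symm
      obtain ⟨x, c, hc, hx, hIx⟩ := ih (R ⧸ K) (I.map (Ideal.Quotient.mk K)) (show (maximalIdeal (R ⧸ span ({z} : Set R))).spanFinrank = d by omega)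
      choose y hy using fun i => Ideal.Quotient.mk_surjective (x i)
      have hy' : Ideal.Quotient.mk K ∘ y = x := funext hy
      refine ⟨Fin.cons z y, c + 1, by omega, ?_, ?_⟩
      · rw [Fin.range_cons, span_insert, sup_comm,
          maximalIdeal_eq_sup_span y (by rw [hy']; exact hx) ((span_singleton_le_iff_mem _).2 (hI hz))]
      · have hrange : (Set.range fun i : Fin (c + 1) => (Fin.cons z y : Fin (d + 1) → R) (Fin.castLE (by omega) i)) =
            insert z (Set.range fun i : Fin c => y (Fin.castLE hc i)) := by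
          rw [← Fin.range_cons]
          congr 1
          funext i
          exact Fin.cases rfl (fun j => rfl) i
        rw [hrange, span_insert]
        have h1 : (span (Set.range fun i : Fin c => y (Fin.castLE hc i))).map (Ideal.Quotient.mk K) =
            I.map (Ideal.Quotient.mk K) := by
          rw [map_span, ← Set.range_comp, hIx]
          congr 2
          funext i
          exact hy _
        have h2 := congrArg (Ideal.comap (Ideal.Quotient.mk K)) h1
        rw [comap_map_of_surjective _ Ideal.Quotient.mk_surjective, comap_map_of_surjective _ Ideal.Quotient.mk_surjective] at h2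
        change _ ⊔ RingHom.ker _ = _ ⊔ RingHom.ker _ at h2
        rw [mk_ker, sup_eq_left.2 hK, sup_comm] at h2
        exact h2.symm

end Groth.Agent.RegLoc
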