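import Mathlib.Algebra.Category.ModuleCat.ProjectiveDimension
import Mathlib.Algebra.Category.ModuleCat.Ext.HasExt
import Mathlib.Algebra.Category.ModuleCat.Projective
import Mathlib.Algebra.Homology.ShortComplex.ModuleCat
import Mathlib.CategoryTheory.Abelian.Projective.Dimension
import Mathlib.RingTheory.LocalRing.Module
import Mathlib.RingTheory.QuotSMulTop
import Mathlib.RingTheory.Regular.Free
import Mathlib.RingTheory.Flat.FaithfullyFlat.Basic
import Mathlib.RingTheory.LocalProperties.Projective
import Mathlib.RingTheory.Finiteness.Basic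
import Mathlib.RingTheory.Noetherian.Basic
import Mathlib.Algebra.Module.LocalizedModule.Exact
import Mathlib.RingTheory.Flat.EquationalCriterion

/-!
# Projective dimension of unbundled modules: change of rings, descent, localisation
-/

open CategoryTheory TensorProduct
open scoped Pointwise

namespace Groth.Agent.RegLoc

universe u

/-- `PD R M n`: the projective dimension of `M` is at most `n`. -/
def PD (R : Type u) [CommRing R] (M : Type u) [AddCommGroup M] [Module R M] (n : ℕ) : Prop :=
  HasProjectiveDimensionLT (ModuleCat.of R M) (n + 1)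

variable {R : Type u} [CommRing R] {M N : Type u} [AddCommGroup M] [Module R M] [AddCommGroup N] [Module R N]

lemma pd_zero_iff : PD R M 0 ↔ Module.Projective R M := by
  rw [PD, zero_add, ← projective_iff_hasProjectiveDimensionLT_one]
  exact (IsProjective.iff_projective (R := R) M).symm

lemma PD.mono {m n : ℕ} (h : PD R M m) (hmn : m ≤ n) : PD R M n := by
  have : HasProjectiveDimensionLT (ModuleCat.of R M) (m + 1) := h
  exact hasProjectiveDimensionLT_of_ge _ (m + 1) (n + 1) (by omega)

lemma PD.of_projective (n : ℕ) [h : Module.Projective R M] : PD R M n :=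
  (pd_zero_iff.2 h).mono (Nat.zero_le _)

lemma PD.congr {n : ℕ} (h : PD R M n) (e : M ≃ₗ[R] N) : PD R N n := by
  have : HasProjectiveDimensionLT (ModuleCat.of R M) (n + 1) := h
  exact hasProjectiveDimensionLT_of_iso e.toModuleIso _

lemma pd_congr {n : ℕ} (e : M ≃ₗ[R] N) : PD R M n ↔ PD R N n :=
  ⟨fun h => h.congr e, fun h => h.congr e.symm⟩

lemma PD.of_retract {n : ℕ} (h : PD R M n) (i : N →ₗ[R] M) (p : M →ₗ[R] N) (hpi : p ∘ₗ i = LinearMap.id) :
    PD R N n := by
  have : HasProjectiveDimensionLT (ModuleCat.of R M) (n + 1) := h
  exact (Retract.mk (X := ModuleCat.of R N) (Y := ModuleCat.of R M) (ModuleCat.ofHom i) (ModuleCat.ofHom p)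
    (by ext x; exact LinearMap.congr_fun hpi x)).hasProjectiveDimensionLT _

lemma pd_succ_iff {n : ℕ} [Module.Projective R N] (f : N →ₗ[R] M) (hf : Function.Surjective f) :
    PD R M (n + 1) ↔ PD R (LinearMap.ker f) n := by
  let S : ShortComplex (ModuleCat.{u} R) := ModuleCat.shortComplexOfCompEqZero
    f.ker.subtype f (LinearMap.exact_subtype_ker_map f).linearMap_comp_eq_zero
  have hS : S.ShortExact := ModuleCat.shortComplex_shortExact S
    (LinearMap.exact_subtype_ker_map f) f.ker.injective_subtype hf
  have hP : Projective S.X₂ := (IsProjective.iff_projective (R := R) N).1 inferInstance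
  exact hS.hasProjectiveDimensionLT_X₃_iff n hP

/-- The sequence `0 → M' → M → M'' → 0`: bound on the quotient. -/
lemma PD.quotient {n : ℕ} {K : Type u} [AddCommGroup K] [Module R K] (i : K →ₗ[R] N) (f : N →ₗ[R] M)
    (hi : Function.Injective i) (hf : Function.Surjective f) (hex : Function.Exact i f)
    (hK : PD R K n) (hN : PD R N (n + 1)) : PD R M (n + 1) := by
  let S : ShortComplex (ModuleCat.{u} R) := ModuleCat.shortComplexOfCompEqZero i f hex.linearMap_comp_eq_zero
  have hS : S.ShortExact := ModuleCat.shortComplex_shortExact S hex hi hf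
  exact hS.hasProjectiveDimensionLT_X₃ (n + 1) hK hN

/-- The sequence `0 → M' → M → M'' → 0`: bound on the submodule. -/
lemma PD.submodule {n : ℕ} {K : Type u} [AddCommGroup K] [Module R K] (i : K →ₗ[R] N) (f : N →ₗ[R] M)
    (hi : Function.Injective i) (hf : Function.Surjective f) (hex : Function.Exact i f)
    (hN : PD R N n) (hM : PD R M (n + 1)) : PD R K n := by
  let S : ShortComplex (ModuleCat.{u} R) := ModuleCat.shortComplexOfCompEqZero i f hex.linearMap_comp_eq_zero
  have hS : S.ShortExact := ModuleCat.shortComplex_shortExact S hex hi hf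
  exact hS.hasProjectiveDimensionLT_X₁ (n + 1) hN hM

/-- Change of rings modulo a regular element. -/
theorem pd_quotSMulTop_iff [IsLocalRing R] [IsNoetherianRing R] {x : R}
    (hx : x ∈ IsLocalRing.maximalIdeal R) (hR : IsSMulRegular R x) :
    ∀ {n : ℕ} (M : Type u) [AddCommGroup M] [Module R M] [Module.Finite R M], IsSMulRegular M x →
      (PD R M n ↔ PD (R ⧸ Ideal.span {x}) (QuotSMulTop x M) n) := by
  have hne : Ideal.span {x} ≠ ⊤ :=
    ne_top_of_le_ne_top (IsLocalRing.maximalIdeal.isMaximal R).ne_top ((Ideal.span_singleton_le_iff_mem _).2 hx)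
  have : Nontrivial (R ⧸ Ideal.span {x}) := Ideal.Quotient.nontrivial_iff.2 hne
  have : IsLocalRing (R ⧸ Ideal.span {x}) := .of_surjective' _ Ideal.Quotient.mk_surjective
  intro n
  induction n with
  | zero =>
    intro M _ _ _ hM
    have : Module.FinitePresentation R M := Module.finitePresentation_of_finite R M
    have : Module.Finite (R ⧸ Ideal.span {x}) (QuotSMulTop x M) :=
      Module.Finite.of_restrictScalars_finite R _ _
    rw [pd_zero_iff, pd_zero_iff]
    have key := Module.free_quotSMulTop_iff_free R M
      (IsLocalRing.maximalIdeal_le_jacobson _ hx) hM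
    constructor
    · intro h
      have : Module.Free R M := Module.free_of_flat_of_isLocalRing
      have := key.2 this
      infer_instance
    · intro h
      have : Module.Free (R ⧸ Ideal.span {x}) (QuotSMulTop x M) := Module.free_of_flat_of_isLocalRing
      have := key.1 this
      infer_instance
  | succ n ih =>
    intro M _ _ _ hM
    obtain ⟨m, f, hf⟩ := Module.Finite.exists_fin' R M
    have hF : IsSMulRegular (Fin m → R) x := fun a b h => funext fun i => hR (congrFun h i)
    have hK : IsSMulRegular f.ker x := fun a b h => Subtype.ext (hF (congrArg Subtype.val h))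
    have : Module.Finite R f.ker := Module.Finite.iff_fg.2 (IsNoetherian.noetherian _)
    rw [pd_succ_iff f hf, ih _ hK]
    let fx : QuotSMulTop x (Fin m → R) →ₗ[R ⧸ Ideal.span {x}] QuotSMulTop x M :=
      LinearMap.extendScalarsOfSurjective Ideal.Quotient.mk_surjective (QuotSMulTop.map x f)
    have hfx : Function.Surjective fx := QuotSMulTop.map_surjective x hf
    rw [pd_succ_iff fx hfx]
    let j : QuotSMulTop x f.ker →ₗ[R ⧸ Ideal.span {x}] QuotSMulTop x (Fin m → R) :=
      LinearMap.extendScalarsOfSurjective Ideal.Quotient.mk_surjective (QuotSMulTop.map x f.ker.subtype)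
    have hex : Function.Exact j fx :=
      QuotSMulTop.map_exact x (LinearMap.exact_subtype_ker_map f) hf
    have hj : Function.Injective j := by
      rw [injective_iff_map_eq_zero]
      intro a ha
      obtain ⟨k, rfl⟩ := Submodule.mkQ_surjective _ a
      obtain ⟨v, -, hv⟩ := (Submodule.mem_smul_pointwise_iff_exists _ _ _).1
        ((Submodule.Quotient.mk_eq_zero _).1 ha)
      have hfv : f v = 0 := by
        refine hM ?_
        show x • f v = x • 0
        rw [smul_zero, ← map_smul, hv]
        exact k.2
      exact (Submodule.Quotient.mk_eq_zero _).2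
        ((Submodule.mem_smul_pointwise_iff_exists _ _ _).2 ⟨⟨v, hfv⟩, trivial, Subtype.ext hv⟩)
    have he : LinearMap.range j = LinearMap.ker fx := (LinearMap.exact_iff.1 hex).symm
    exact pd_congr ((LinearEquiv.ofInjective j hj).trans (LinearEquiv.ofEq _ _ he))

/-- Descent of projective dimension along a faithfully flat map of Noetherian rings. -/
theorem pd_of_baseChange (S : Type u) [CommRing S] [Algebra R S] [Module.FaithfullyFlat R S]
    [IsNoetherianRing R] : ∀ {n : ℕ} (M : Type u) [AddCommGroup M] [Module R M] [Module.Finite R M],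
      PD S (S ⊗[R] M) n → PD R M n := by
  intro n
  induction n with
  | zero =>
    intro M _ _ _ h
    rw [pd_zero_iff] at h ⊢
    have : Module.Flat R M := (Module.Flat.iff_flat_tensorProduct (R := R) (M := M) S).1 inferInstance
    have : Module.FinitePresentation R M := Module.finitePresentation_of_finite R M
    exact Module.Flat.projective_of_finitePresentation
  | succ n ih =>
    intro M _ _ _ h
    obtain ⟨m, f, hf⟩ := Module.Finite.exists_fin' R M
    have : Module.Finite R f.ker := Module.Finite.iff_fg.2 (IsNoetherian.noetherian _)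
    have hfS : Function.Surjective (f.baseChange S) := LinearMap.lTensor_surjective S hf
    rw [pd_succ_iff f hf]
    rw [pd_succ_iff _ hfS] at h
    refine ih _ (h.congr ?_)
    have hinj : Function.Injective (f.ker.subtype.baseChange S) :=
      Module.Flat.lTensor_preserves_injective_linearMap _ f.ker.injective_subtype
    have hex : Function.Exact (f.ker.subtype.baseChange S) (f.baseChange S) :=
      lTensor_exact S (LinearMap.exact_subtype_ker_map f) hf
    exact ((LinearEquiv.ofInjective _ hinj).trans (LinearEquiv.ofEq _ _ (LinearMap.exact_iff.1 hex).symm)).symm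

/-- Projective dimension does not go up under localisation. -/
theorem pd_localizedModule (S : Submonoid R) [IsNoetherianRing R] :
    ∀ {n : ℕ} (M : Type u) [AddCommGroup M] [Module R M] [Module.Finite R M],
      PD R M n → PD (Localization S) (LocalizedModule S M) n := by
  intro n
  induction n with
  | zero =>
    intro M _ _ _ h
    rw [pd_zero_iff] at h ⊢
    exact Module.projective_of_isLocalizedModule S (LocalizedModule.mkLinearMap S M)
  | succ n ih =>
    intro M _ _ _ h
    obtain ⟨m, f, hf⟩ := Module.Finite.exists_fin' R M
    have : Module.Finite R f.ker := Module.Finite.iff_fg.2 (IsNoetherian.noetherian _)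
    rw [pd_succ_iff f hf] at h
    have hfS : Function.Surjective (LocalizedModule.map S f) := LocalizedModule.map_surjective S f hf
    have : Module.Projective (Localization S) (LocalizedModule S (Fin m → R)) :=
      Module.projective_of_isLocalizedModule S (LocalizedModule.mkLinearMap S (Fin m → R))
    rw [pd_succ_iff _ hfS]
    refine (ih _ h).congr ?_
    have hinj : Function.Injective (LocalizedModule.map S f.ker.subtype) :=
      LocalizedModule.map_injective S _ f.ker.injective_subtype
    have hex : Function.Exact (LocalizedModule.map S f.ker.subtype) (LocalizedModule.map S f) :=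
      LocalizedModule.map_exact S f.ker.subtype f (LinearMap.exact_subtype_ker_map f)
    exact (LinearEquiv.ofInjective _ hinj).trans (LinearEquiv.ofEq _ _ (LinearMap.exact_iff.1 hex).symm)

end Groth.Agent.RegLoc
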