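import Groth.Agent.Lib.RegLoc.Sop
import Groth.Agent.Lib.RegLoc.PD
import Groth.Agent.Lib.HomDim.Basic
import Mathlib.RingTheory.Ideal.AssociatedPrime.Finiteness
import Mathlib.RingTheory.Regular.ProjectiveDimension
import Mathlib.RingTheory.LocalProperties.Projective

/-!
# Auslander–Buchsbaum–Serre: regular local rings are those of finite global dimension
-/

open IsLocalRing Ideal
open scoped Pointwise

namespace Groth.Agent.RegLoc

universe u

variable {R : Type u} [CommRing R]

lemma pd_residueField_iff [IsLocalRing R] {n : ℕ} :
    PD R (ResidueField R) n ↔ PD R (R ⧸ maximalIdeal R) n :=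
  pd_congr ({ toFun := id, invFun := id, map_add' := fun _ _ => rfl, map_smul' := fun _ _ => rfl,
              left_inv := fun _ => rfl, right_inv := fun _ => rfl } : ResidueField R ≃ₗ[R] R ⧸ maximalIdeal R)

/-- Finite modules over a regular local ring of dimension `d` have projective dimension `≤ d`. -/
theorem pd_le_spanFinrank : ∀ (d : ℕ) (R : Type u) [CommRing R] [IsRegularLocalRing R],
    (maximalIdeal R).spanFinrank = d →
      ∀ (M : Type u) [AddCommGroup M] [Module R M] [Module.Finite R M], PD R M d := by
  intro d
  induction d with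
  | zero =>
    intro R _ _ hd M _ _ _
    have hm : maximalIdeal R = ⊥ := isField_iff_maximalIdeal_eq.1 (spanFinrank_maximalIdeal_eq_zero_iff.1 hd)
    have : Module.FinitePresentation R M := Module.finitePresentation_of_finite R M
    have : Module.Free R M := by
      refine Module.free_of_maximalIdeal_rTensor_injective ?_
      have : Subsingleton (maximalIdeal R) := by rw [hm]; infer_instance
      exact Function.injective_of_subsingleton _
    exact PD.of_projective 0
  | succ d ih =>
    intro R _ _ hd M _ _ _
    have := isDomain R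
    have hF : ¬ IsField R := fun h => by
      rw [spanFinrank_maximalIdeal_eq_zero_iff.2 h] at hd; omega
    obtain ⟨x, hx, hx2, -⟩ := exists_mem_notMem_sq_notMem_minimalPrimes hF
    obtain ⟨_, hq⟩ := quotient_span_singleton hx hx2
    have hx0 : x ≠ 0 := fun h => hx2 (h ▸ zero_mem _)
    have hR : IsSMulRegular R x := fun a b h => mul_left_cancel₀ hx0 h
    obtain ⟨m, f, hf⟩ := Module.Finite.exists_fin' R M
    have : Module.Finite R f.ker := Module.Finite.iff_fg.2 (IsNoetherian.noetherian _)
    have hK : IsSMulRegular f.ker x := fun a b h =>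
      Subtype.ext (funext fun i => hR (congrFun (congrArg Subtype.val h) i))
    rw [pd_succ_iff f hf, pd_quotSMulTop_iff hx hR _ hK]
    have : Module.Finite (R ⧸ span ({x} : Set R)) (QuotSMulTop x f.ker) :=
      Module.Finite.of_restrictScalars_finite R _ _
    exact ih _ (by omega) _

/-- Every module over a regular local ring of dimension `d` has projective dimension `≤ d`. -/
theorem hasProjectiveDimensionLT_of_regular [IsRegularLocalRing R] {d : ℕ}
    (hd : (maximalIdeal R).spanFinrank = d) (M : ModuleCat.{u} R) :
    CategoryTheory.HasProjectiveDimensionLT M (d + 1) :=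
  Groth.Agent.HomDim.hasProjectiveDimensionLT_of_forall_cyclic d
    (fun I => pd_le_spanFinrank d R hd (R ⧸ I)) M

/-- If some `z ≠ 0` is killed by the maximal ideal, finite modules of finite projective dimension are free. -/
theorem free_of_pd [IsLocalRing R] [IsNoetherianRing R] {z : R} (hz : z ≠ 0)
    (hzm : ∀ a ∈ maximalIdeal R, a * z = 0) :
    ∀ {n : ℕ} (M : Type u) [AddCommGroup M] [Module R M] [Module.Finite R M], PD R M n → Module.Free R M := by
  intro n
  induction n with
  | zero =>
    intro M _ _ _ h
    have := pd_zero_iff.1 h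
    exact Module.free_of_flat_of_isLocalRing
  | succ n ih =>
    intro M _ _ _ h
    classical
    have hex : ∃ r : ℕ, ∃ f : (Fin r → R) →ₗ[R] M, Function.Surjective f := Module.Finite.exists_fin' R M
    obtain ⟨f, hf⟩ := Nat.find_spec hex
    have hker : ∀ v ∈ f.ker, ∀ i, v i ∈ maximalIdeal R := by
      intro v hv i
      by_contra hu
      rw [mem_maximalIdeal, mem_nonunits_iff, not_not] at hu
      obtain ⟨r, hr⟩ : ∃ r, Nat.find hex = r + 1 := ⟨Nat.find hex - 1, by have := i.pos; omega⟩
      refine Nat.find_min hex (m := r) (by omega) ?_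
      let e : Fin (r + 1) ≃ Fin (Nat.find hex) := finCongr hr.symm
      let g : (Fin r → R) →ₗ[R] M :=
        Fintype.linearCombination R (fun j => f (Pi.single (e ((e.symm i).succAbove j)) 1))
      refine ⟨g, LinearMap.range_eq_top.1 (top_le_iff.1 ?_)⟩
      rw [← LinearMap.range_eq_top.2 hf, LinearMap.range_eq_map, ← (Pi.basisFun R _).span_eq,
        Submodule.map_span, Submodule.span_le]
      have hsingle : ∀ k, k ≠ i → f (Pi.single k 1) ∈ LinearMap.range g := by
        intro k hk
        obtain ⟨j, hj⟩ := Fin.exists_succAbove_eq (x := e.symm k) (y := e.symm i) (fun h => hk (e.symm.injective h))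
        refine ⟨Pi.single j 1, ?_⟩
        simp only [g, Fintype.linearCombination_apply_single, one_smul, hj, Equiv.apply_symm_apply]
      rintro _ ⟨_, ⟨k, rfl⟩, rfl⟩
      rw [Pi.basisFun_apply]
      by_cases hk : k = i
      · subst hk
        obtain ⟨u, hu'⟩ := hu.exists_left_inv
        have hsum : ∑ l, v l • f (Pi.single l 1) = 0 := by
          simp_rw [← map_smul, ← map_sum]
          rw [← pi_eq_sum_univ' v]
          exact hv
        rw [← Finset.add_sum_erase _ _ (Finset.mem_univ k), add_eq_zero_iff_eq_neg] at hsum
        have h2 : v k • f (Pi.single k 1) ∈ LinearMap.range g := by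
          rw [hsum]
          exact neg_mem (Submodule.sum_mem _ fun l hl => Submodule.smul_mem _ _ (hsingle l (Finset.ne_of_mem_erase hl)))
        have := Submodule.smul_mem _ u h2
        rwa [smul_smul, hu', one_smul] at this
      · exact hsingle k hk
    rw [pd_succ_iff f hf] at h
    have : Module.Finite R f.ker := Module.Finite.iff_fg.2 (IsNoetherian.noetherian _)
    have := ih _ h
    obtain ⟨ι, ⟨b⟩⟩ := (Module.free_def.{u, u, u} _ _).1 this
    have : IsEmpty ι := ⟨fun i => by
      refine hz ?_
      have h0 : z • b i = 0 := Subtype.ext (funext fun j => by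
        show z * (b i : Fin _ → R) j = 0
        rw [mul_comm]; exact hzm _ (hker _ (b i).2 j))
      simpa using congrArg (fun w => b.repr w i) h0⟩
    have : Subsingleton f.ker := b.repr.toEquiv.subsingleton
    have hinj : Function.Injective f := LinearMap.ker_eq_bot.1 Submodule.eq_bot_of_subsingleton
    exact Module.Free.of_equiv (LinearEquiv.ofBijective f ⟨hinj, hf⟩)

/-- Serre: finite projective dimension of the residue field forces regularity. -/
theorem isRegularLocalRing_of_pd : ∀ (R : Type u) [CommRing R] [IsLocalRing R] [IsNoetherianRing R] (n : ℕ),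
    PD R (R ⧸ maximalIdeal R) n → IsRegularLocalRing R := by
  suffices ∀ e, ∀ (R : Type u) [CommRing R] [IsLocalRing R] [IsNoetherianRing R], (maximalIdeal R).spanFinrank = e →
      ∀ n, PD R (R ⧸ maximalIdeal R) n → IsRegularLocalRing R from fun R _ _ _ n h => this _ R rfl n h
  intro e
  induction e using Nat.strong_induction_on with
  | _ e ih =>
    intro R _ _ _ he n h
    classical
    rcases Nat.eq_zero_or_pos e with rfl | hpos
    · exact IsRegularLocalRing.of_spanFinrank_maximalIdeal_le _ (by
        rw [he]; exact ringKrullDim_nonneg_of_nontrivial)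
    obtain ⟨x, hx, hx2, hreg⟩ : ∃ x ∈ maximalIdeal R, x ∉ maximalIdeal R ^ 2 ∧ x ∈ nonZeroDivisors R := by
      by_contra hc
      push Not at hc
      set P := (associatedPrimes.finite R R).toFinset
      have hsub : (maximalIdeal R : Set R) ⊆
          ⋃ i ∈ (↑(insert (maximalIdeal R ^ 2) P) : Set (Ideal R)), (i : Set R) := by
        intro y hy
        simp only [Set.mem_iUnion, Finset.coe_insert, Set.mem_insert_iff, SetLike.mem_coe, exists_prop]
        by_cases h2 : y ∈ maximalIdeal R ^ 2
        · exact ⟨_, Or.inl rfl, h2⟩
        · have h3 : y ∈ ⋃ p ∈ associatedPrimes R R, (p : Set R) := by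
            rw [biUnion_associatedPrimes_eq_compl_nonZeroDivisors]; exact hc y hy h2
          simp only [Set.mem_iUnion, exists_prop] at h3
          obtain ⟨p, hp, hyp⟩ := h3
          exact ⟨p, Or.inr (by simpa [P] using hp), hyp⟩
      obtain ⟨i, hi, hle⟩ := (subset_union_prime (maximalIdeal R ^ 2) (maximalIdeal R ^ 2)
        (fun i hi hne _ => by
          have : i ∈ associatedPrimes R R := by simpa [P] using (Finset.mem_insert.1 hi).resolve_left hne
          exact this.isPrime)).1 hsub
      rcases Finset.mem_insert.1 hi with rfl | hi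
      · have h0 := Submodule.eq_bot_of_le_smul_of_le_jacobson_bot (maximalIdeal R) _
          (IsNoetherian.noetherian (maximalIdeal R)) (by rw [smul_eq_mul, ← pow_two]; exact hle)
          (maximalIdeal_le_jacobson _)
        rw [h0, Submodule.spanFinrank_bot] at he
        omega
      · have hi' : i ∈ associatedPrimes R R := by simpa [P] using hi
        obtain ⟨hp, z, hz⟩ := isAssociatedPrime_iff.1 hi'
        have hz0 : z ≠ 0 := fun h => hp.ne_top (by rw [hz, h]; ext; simp [Submodule.mem_colon_singleton])
        have hzm : ∀ a ∈ maximalIdeal R, a * z = 0 := fun a ha => by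
          have := hle ha
          rw [hz, Submodule.mem_colon_singleton, Submodule.mem_bot] at this
          exact this
        have hfree := free_of_pd hz0 hzm _ h
        obtain ⟨ι, ⟨b⟩⟩ := (Module.free_def.{u, u, u} _ _).1 hfree
        obtain ⟨j⟩ : Nonempty ι := b.index_nonempty
        have hm : maximalIdeal R = ⊥ := by
          rw [eq_bot_iff]
          intro a ha
          have h0 : a • b j = 0 := by
            obtain ⟨c, hc⟩ := Submodule.mkQ_surjective _ (b j)
            rw [← hc, ← map_smul]
            exact (Submodule.Quotient.mk_eq_zero _).2 ((maximalIdeal R).mul_mem_right _ ha)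
          simpa using congrArg (fun w => b.repr w j) h0
        rw [hm, Submodule.spanFinrank_bot] at he
        omega
    have hR : IsSMulRegular R x := fun a b hab => by
      have : (a - b) * x = 0 := by rw [sub_mul, mul_comm a, mul_comm b]; exact sub_eq_zero.2 hab
      exact sub_eq_zero.1 ((mem_nonZeroDivisors_iff.1 hreg).2 _ this)
    have hne : span ({x} : Set R) ≠ ⊤ :=
      ne_top_of_le_ne_top (maximalIdeal.isMaximal R).ne_top ((span_singleton_le_iff_mem _).2 hx)
    have := isLocalRing_quotient hne
    have hlt := spanFinrank_quotient_span_singleton_lt hx hx2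
    let S := R ⧸ span ({x} : Set R)
    have hlt' : (maximalIdeal S).spanFinrank < e := he ▸ hlt
    obtain ⟨y, hy⟩ := exists_fin_generators S
    choose w hw using fun i => Ideal.Quotient.mk_surjective (y i)
    set B : Ideal R := span (Set.range w)
    have hmB : maximalIdeal R = B ⊔ span ({x} : Set R) :=
      maximalIdeal_eq_sup_span w (by rw [show Ideal.Quotient.mk _ ∘ w = y from funext hw]; exact hy)
        ((span_singleton_le_iff_mem _).2 hx)
    have hxB : x ∉ B := by
      intro hxB
      have hm : maximalIdeal R = B := by rw [hmB, sup_eq_left]; exact (span_singleton_le_iff_mem _).2 hxB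
      have : (maximalIdeal R).spanFinrank ≤ (maximalIdeal S).spanFinrank := by
        rw [hm, show B = span (w '' Set.univ) by rw [Set.image_univ]]
        refine (Submodule.spanFinrank_span_le_ncard_of_finite (Set.finite_univ.image _)).trans
          ((Set.ncard_image_le Set.finite_univ).trans ?_)
        simp [Set.ncard_univ]
      omega
    have hBm : B ≤ maximalIdeal R := hmB ▸ le_sup_left
    -- the natural map `m/xm → m_S` and its section through `B`
    have hmapm : ∀ a ∈ maximalIdeal R, Ideal.Quotient.mk (span ({x} : Set R)) a ∈ maximalIdeal S := fun a ha =>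
      maximalIdeal_quotient (R := R) (I := span ({x} : Set R)) ▸ mem_map_of_mem _ ha
    let q : maximalIdeal R →ₗ[R] maximalIdeal S :=
      { toFun := fun a => ⟨Ideal.Quotient.mk _ (a : R), hmapm a a.2⟩
        map_add' := fun a b => Subtype.ext (map_add _ _ _)
        map_smul' := fun r a => Subtype.ext (by
          show Ideal.Quotient.mk _ (r * (a : R)) = r • Ideal.Quotient.mk _ (a : R)
          rfl) }
    have hqx : x • (⊤ : Submodule R (maximalIdeal R)) ≤ LinearMap.ker q := by
      intro a ha
      obtain ⟨c, -, rfl⟩ := (Submodule.mem_smul_pointwise_iff_exists _ _ _).1 ha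
      exact Subtype.ext (Ideal.Quotient.eq_zero_iff_mem.2
        (mul_mem_right (c : R) _ (mem_span_singleton_self x)))
    let p : QuotSMulTop x (maximalIdeal R) →ₗ[R] maximalIdeal S := Submodule.liftQ _ q hqx
    let π : B →ₗ[R] maximalIdeal S := q ∘ₗ Submodule.inclusion hBm
    have hπ : Function.Surjective π := by
      rintro ⟨a, ha⟩
      obtain ⟨r, rfl⟩ := Ideal.Quotient.mk_surjective a
      have hr : r ∈ maximalIdeal R := by
        rw [mem_maximalIdeal, mem_nonunits_iff]
        exact fun hu => (mem_maximalIdeal _).1 ha (hu.map _)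
      rw [hmB] at hr
      obtain ⟨b, hb, c, hc, rfl⟩ := Submodule.mem_sup.1 hr
      refine ⟨⟨b, hb⟩, Subtype.ext ?_⟩
      show Ideal.Quotient.mk _ b = Ideal.Quotient.mk _ (b + c)
      rw [map_add, Ideal.Quotient.eq_zero_iff_mem.2 hc, add_zero]
    let ψ : B →ₗ[R] QuotSMulTop x (maximalIdeal R) := Submodule.mkQ _ ∘ₗ Submodule.inclusion hBm
    have hker : LinearMap.ker π ≤ LinearMap.ker ψ := by
      rintro ⟨b, hb⟩ hb0
      have hbx : b ∈ span ({x} : Set R) := Ideal.Quotient.eq_zero_iff_mem.1 (congrArg Subtype.val hb0)
      obtain ⟨c, rfl⟩ := mem_span_singleton'.1 hbx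
      have hc : c ∈ maximalIdeal R := by
        rw [mem_maximalIdeal, mem_nonunits_iff]
        intro hu
        obtain ⟨u, hu⟩ := hu.exists_left_inv
        apply hxB
        have := mul_mem_left B u hb
        rwa [← mul_assoc, hu, one_mul] at this
      refine (Submodule.Quotient.mk_eq_zero _).2 ((Submodule.mem_smul_pointwise_iff_exists _ _ _).2
        ⟨⟨c, hc⟩, trivial, Subtype.ext (mul_comm x c)⟩)
    let i : maximalIdeal S →ₗ[R] QuotSMulTop x (maximalIdeal R) :=
      Submodule.liftQ _ ψ hker ∘ₗ (π.quotKerEquivOfSurjective hπ).symm.toLinearMap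
    have hpi : p ∘ₗ i = LinearMap.id := by
      ext a
      obtain ⟨b, rfl⟩ := hπ a
      have : (π.quotKerEquivOfSurjective hπ).symm (π b) = Submodule.Quotient.mk b :=
        (π.quotKerEquivOfSurjective hπ).symm_apply_eq.2 rfl
      simp only [i, LinearMap.comp_apply, LinearEquiv.coe_coe, this]
      rfl
    have hm_pd : PD R (maximalIdeal R) n :=
      PD.submodule (maximalIdeal R).subtype (maximalIdeal R).mkQ (maximalIdeal R).injective_subtype
        (Submodule.mkQ_surjective _) (LinearMap.exact_subtype_mkQ _) (PD.of_projective n) (h.mono n.le_succ)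
    have : Module.Finite R (maximalIdeal R) := Module.Finite.iff_fg.2 (IsNoetherian.noetherian _)
    rw [pd_quotSMulTop_iff hx hR (maximalIdeal R) (fun a b hab => Subtype.ext (hR (congrArg Subtype.val hab)))] at hm_pd
    have hS_pd : PD S (maximalIdeal S) n :=
      hm_pd.of_retract (LinearMap.extendScalarsOfSurjective Ideal.Quotient.mk_surjective i)
        (LinearMap.extendScalarsOfSurjective Ideal.Quotient.mk_surjective p)
        (LinearMap.ext fun a => LinearMap.congr_fun hpi a)
    have hk : PD S (S ⧸ maximalIdeal S) (n + 1) :=
      PD.quotient (maximalIdeal S).subtype (maximalIdeal S).mkQ (maximalIdeal S).injective_subtype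
        (Submodule.mkQ_surjective _) (LinearMap.exact_subtype_mkQ _) hS_pd (PD.of_projective _)
    have := ih _ hlt' S rfl (n + 1) hk
    exact of_quotient_span_singleton hx hreg

theorem isRegularLocalRing_of_hasProjectiveDimensionLT [IsLocalRing R] [IsNoetherianRing R] {n : ℕ}
    (h : CategoryTheory.HasProjectiveDimensionLT (ModuleCat.of R (ResidueField R)) n) : IsRegularLocalRing R := by
  refine isRegularLocalRing_of_pd R n (pd_residueField_iff.1 ?_)
  exact CategoryTheory.hasProjectiveDimensionLT_of_ge _ n (n + 1) n.le_succ

/-- The projective dimension of the residue field of a regular local ring is the dimension. -/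
theorem projectiveDimension_residueField [IsRegularLocalRing R] :
    CategoryTheory.projectiveDimension (ModuleCat.of R (ResidueField R)) = (maximalIdeal R).spanFinrank := by
  obtain ⟨x, hx⟩ := exists_fin_generators R
  have hreg := isRegular_of_span_range _ R x hx rfl
  have h := ModuleCat.projectiveDimension_quotient_eq_length.{u} (List.ofFn x) hreg
  rw [List.length_ofFn] at h
  rw [← h]
  have hol : Ideal.ofList (List.ofFn x) = maximalIdeal R := by
    refine Eq.trans ?_ hx
    rw [Ideal.ofList]
    congr 1
    ext; simp [List.mem_ofFn]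
  let e : ResidueField R ≃ₗ[R] R ⧸ maximalIdeal R :=
    { toFun := id, invFun := id, map_add' := fun _ _ => rfl, map_smul' := fun _ _ => rfl,
      left_inv := fun _ => rfl, right_inv := fun _ => rfl }
  exact CategoryTheory.projectiveDimension_eq_of_iso
    ((e.trans (Submodule.quotEquivOfEq _ _ hol.symm)).trans (Shrink.linearEquiv R _).symm).toModuleIso

theorem spanFinrank_lt_of_hasProjectiveDimensionLT [IsLocalRing R] [IsNoetherianRing R] {d : ℕ}
    (h : CategoryTheory.HasProjectiveDimensionLT (ModuleCat.of R (ResidueField R)) d) :
    (maximalIdeal R).spanFinrank < d := by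
  have := isRegularLocalRing_of_hasProjectiveDimensionLT h
  have h1 := projectiveDimension_residueField (R := R)
  have h2 := CategoryTheory.projectiveDimension_lt_iff.2 h
  rw [h1] at h2
  exact_mod_cast h2

/-- A localization of a regular local ring at a prime is regular. -/
theorem isRegularLocalRing_localization (R : Type u) [CommRing R] [IsRegularLocalRing R]
    (p : Ideal R) [p.IsPrime] : IsRegularLocalRing (Localization.AtPrime p) := by
  have := IsLocalization.isNoetherianRing p.primeCompl (Localization.AtPrime p) inferInstance
  refine isRegularLocalRing_of_pd _ (maximalIdeal R).spanFinrank ?_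
  have h := pd_localizedModule p.primeCompl (R ⧸ p) (pd_le_spanFinrank _ R rfl (R ⧸ p))
  refine h.congr ?_
  exact ((LocalizedModule.equivTensorProduct p.primeCompl (R ⧸ p)).trans
    (Ideal.qoutMapEquivTensorQout (Localization.AtPrime p)).symm).trans
    (Submodule.quotEquivOfEq _ _ Localization.AtPrime.map_eq_maximalIdeal)

open TensorProduct in
/-- Regularity descends along flat local homomorphisms. -/
theorem isRegularLocalRing_of_flat (R : Type u) [CommRing R] [IsLocalRing R] [IsNoetherianRing R]
    (S : Type u) [CommRing S] [IsRegularLocalRing S] [Algebra R S] [IsLocalHom (algebraMap R S)]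
    [Module.Flat R S] : IsRegularLocalRing R := by
  have := Module.FaithfullyFlat.of_flat_of_isLocalHom (A := R) (B := S)
  refine isRegularLocalRing_of_pd R (maximalIdeal S).spanFinrank (pd_of_baseChange S _ ?_)
  exact pd_le_spanFinrank _ S rfl _

end Groth.Agent.RegLoc
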