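import Groth.Agent.Lib.RegLoc.GlobalDim
import Mathlib.RingTheory.Ideal.UFD
import Mathlib.RingTheory.Localization.Algebra
import Mathlib.LinearAlgebra.FreeModule.Finite.Basic
import Mathlib.LinearAlgebra.Matrix.Determinant.Basic
import Mathlib.RingTheory.LocalRing.Module
import Mathlib.Algebra.Module.LocalizedModule.Exact

/-!
# Regular local rings are unique factorization domains (Auslander–Buchsbaum)
-/

open IsLocalRing Ideal

namespace Groth.Agent.RegLoc

universe u

/-- `M` plus a finite free module is finite free. -/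
def StablyFreeFin (R : Type u) [CommRing R] (M : Type u) [AddCommGroup M] [Module R M] : Prop :=
  ∃ a b : ℕ, Nonempty ((M × (Fin a → R)) ≃ₗ[R] (Fin b → R))

variable {R : Type u} [CommRing R]

/-- gluing finite free modules -/
noncomputable def finProdEquiv (R : Type u) [CommRing R] (m n : ℕ) :
    ((Fin m → R) × (Fin n → R)) ≃ₗ[R] (Fin (m + n) → R) :=
  (LinearEquiv.sumArrowLequivProdArrow (Fin m) (Fin n) R R).symm.trans
    (LinearEquiv.funCongrLeft R R finSumFinEquiv.symm)

/-- Over a Noetherian local ring, a module of finite projective dimension which becomes projective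
after localisation becomes stably free. -/
theorem stablyFreeFin_of_pd [IsLocalRing R] [IsNoetherianRing R] (S : Submonoid R) :
    ∀ (n : ℕ) (M : Type u) [AddCommGroup M] [Module R M] [Module.Finite R M],
      PD R M n → Module.Projective (Localization S) (LocalizedModule S M) →
        StablyFreeFin (Localization S) (LocalizedModule S M) := by
  intro n
  induction n with
  | zero =>
    intro M _ _ _ h _
    have := pd_zero_iff.1 h
    have : Module.FinitePresentation R M := Module.finitePresentation_of_finite R M
    have : Module.Free R M := Module.free_of_flat_of_isLocalRing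
    let b := Module.finBasis R M
    let bS : Module.Basis _ (Localization S) (LocalizedModule S M) :=
      b.ofIsLocalizedModule (Localization S) S (LocalizedModule.mkLinearMap S M)
    exact ⟨0, _, ⟨LinearEquiv.prodUnique.trans bS.equivFun⟩⟩
  | succ n ih =>
    intro M _ _ _ h hproj
    obtain ⟨r, f, hf⟩ := Module.Finite.exists_fin' R M
    have : Module.Finite R (LinearMap.ker f) := Module.Finite.iff_fg.2 (IsNoetherian.noetherian _)
    rw [pd_succ_iff f hf] at h
    set fS := LocalizedModule.map S f
    set iS := LocalizedModule.map S (LinearMap.ker f).subtype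
    have hi : Function.Injective iS := LocalizedModule.map_injective S _ f.ker.injective_subtype
    have hsurj : Function.Surjective fS := LocalizedModule.map_surjective S f hf
    have hex : Function.Exact iS fS := LocalizedModule.map_exact S _ f (LinearMap.exact_subtype_ker_map f)
    obtain ⟨l, hl⟩ := Module.projective_lifting_property fS LinearMap.id hsurj
    obtain ⟨e, he⟩ := Function.Exact.splitSurjectiveEquiv (R := Localization S) (M := LocalizedModule S f.ker) (N := LocalizedModule S (Fin r → R)) (P := LocalizedModule S M) (f := iS) (g := fS) hex hi ⟨l, hl⟩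
    have : Module.Projective (Localization S) (LocalizedModule S (Fin r → R)) :=
      Module.projective_of_isLocalizedModule S (LocalizedModule.mkLinearMap S (Fin r → R))
    have hK : Module.Projective (Localization S) (LocalizedModule S (LinearMap.ker f)) :=
      Module.Projective.of_split (iS) (LinearMap.fst _ _ _ ∘ₗ e.toLinearMap) (by
        ext x
        have := LinearMap.congr_fun he.1 x
        simp only [LinearMap.comp_apply, LinearEquiv.coe_coe, LinearMap.inl_apply] at this ⊢
        rw [this]; simp)
    obtain ⟨a, b, ⟨g⟩⟩ := ih _ h hK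
    let bF : Module.Basis (Fin r) (Localization S) (LocalizedModule S (Fin r → R)) :=
      (Pi.basisFun R (Fin r)).ofIsLocalizedModule (Localization S) S (LocalizedModule.mkLinearMap S (Fin r → R))
    refine ⟨b, r + a, ⟨?_⟩⟩
    exact (LinearEquiv.prodCongr (LinearEquiv.refl _ _) g.symm).trans
      ((LinearEquiv.prodAssoc _ _ _ _).symm.trans
        ((LinearEquiv.prodCongr ((LinearEquiv.prodComm _ _ _).trans (e.symm.trans bF.equivFun))
          (LinearEquiv.refl _ _)).trans (finProdEquiv _ r a)))

/-- A stably free ideal in a domain is principal. -/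
theorem isPrincipal_of_stablyFreeFin {A : Type u} [CommRing A] [IsDomain A] (I : Ideal A)
    (h : StablyFreeFin A I) : I.IsPrincipal := by
  classical
  by_cases hI : I = ⊥
  · subst hI; exact inferInstanceAs (Submodule.IsPrincipal (⊥ : Submodule A A))
  obtain ⟨q, hq, hq0⟩ := Submodule.exists_mem_ne_zero_of_ne_bot hI
  obtain ⟨a, b, ⟨e⟩⟩ := h
  let ι : (I × (Fin a → A)) →ₗ[A] (Fin (a + 1) → A) :=
    { toFun := fun z => Fin.cons (z.1 : A) z.2
      map_add' := fun z w => by ext j; refine Fin.cases ?_ (fun j => ?_) j <;> simp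
      map_smul' := fun c z => by ext j; refine Fin.cases ?_ (fun j => ?_) j <;> simp }
  have hι : Function.Injective ι := fun z w hzw => Prod.ext (Subtype.ext (by simpa [ι] using congrFun hzw 0))
    (funext fun j => by simpa [ι] using congrFun hzw j.succ)
  let κ : (Fin (a + 1) → A) →ₗ[A] (I × (Fin a → A)) :=
    { toFun := fun v => (⟨v 0 * q, I.mul_mem_left _ hq⟩, Fin.tail v)
      map_add' := fun v w => Prod.ext (Subtype.ext (by simp [add_mul])) rfl
      map_smul' := fun c v => Prod.ext (Subtype.ext (by simp [mul_assoc])) rfl }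
  have hκ : Function.Injective κ := fun v w hvw => by
    simp only [κ, LinearMap.coe_mk, AddHom.coe_mk, Prod.mk.injEq, Subtype.mk.injEq] at hvw
    funext j
    refine Fin.cases (mul_right_cancel₀ hq0 hvw.1) (fun j => congrFun hvw.2 j) j
  have hb : b = a + 1 := by
    have h1 : Fintype.card (Fin b) ≤ Fintype.card (Fin (a + 1)) :=
      card_le_of_injective A (ι ∘ₗ e.symm.toLinearMap) (hι.comp e.symm.injective)
    have h2 : Fintype.card (Fin (a + 1)) ≤ Fintype.card (Fin b) :=
      card_le_of_injective A (e.toLinearMap ∘ₗ κ) (e.injective.comp hκ)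
    simp only [Fintype.card_fin] at h1 h2; omega
  subst hb
  let L : (Fin (a + 1) → A) →ₗ[A] (Fin (a + 1) → A) := ι ∘ₗ e.symm.toLinearMap
  let V := LinearMap.toMatrix' L
  have hd : V.det ∈ I := by
    rw [Matrix.det_succ_row_zero]
    refine Submodule.sum_mem _ fun j _ => Ideal.mul_mem_right _ _ (Ideal.mul_mem_left _ _ ?_)
    simp only [V, LinearMap.toMatrix'_apply, L, LinearMap.comp_apply, LinearEquiv.coe_coe, ι,
      LinearMap.coe_mk, AddHom.coe_mk, Fin.cons_zero]
    exact Submodule.coe_mem _
  refine ⟨⟨V.det, le_antisymm (fun y hy => ?_) ((Submodule.span_singleton_le_iff_mem _ _).2 hd)⟩⟩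
  let d : Fin (a + 1) → A := Fin.cons y 1
  have hD : ∀ k, ∃ z : I × (Fin a → A), ι z = Pi.single k (d k) := by
    intro k
    refine Fin.cases ⟨(⟨y, hy⟩, 0), ?_⟩ (fun i => ⟨(0, Pi.single i 1), ?_⟩) k
    · ext j; refine Fin.cases ?_ (fun j => ?_) j <;> simp [ι, d, Fin.succ_ne_zero]
    · ext j; refine Fin.cases ?_ (fun j => ?_) j
      · simp [ι, d, (Fin.succ_ne_zero i).symm]
      · simp [ι, d, Pi.single_apply, Fin.succ_inj]
  choose z hz using hD
  let C : Matrix (Fin (a + 1)) (Fin (a + 1)) A := Matrix.of fun j k => e (z k) j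
  have hVC : V * C = Matrix.diagonal d := by
    ext i k
    have h1 : L (e (z k)) = Pi.single k (d k) := by simp [L, hz]
    have h2 := congrFun h1 i
    rw [← Matrix.toLin'_toMatrix' L] at h2
    rw [Matrix.toLin'_apply] at h2
    rw [Matrix.mul_apply]
    rw [Matrix.mulVec, dotProduct] at h2
    simp only [C, Matrix.of_apply, V]
    rw [h2, Pi.single_apply, Matrix.diagonal_apply]
    split_ifs with h <;> simp_all
  have hdet := congrArg Matrix.det hVC
  rw [Matrix.det_mul, Matrix.det_diagonal] at hdet
  refine Submodule.mem_span_singleton.2 ⟨C.det, ?_⟩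
  rw [smul_eq_mul, mul_comm, hdet, Fin.prod_univ_succ]
  simp [d]

/-- An ideal of a domain which is principal near every maximal ideal is projective. -/
theorem projective_of_locally_principal {A : Type u} [CommRing A] [IsDomain A] (Q : Ideal A)
    (h : ∀ M : Ideal A, M.IsMaximal → ∃ g ∈ Q, g ≠ 0 ∧ ∃ s ∉ M, ∀ y ∈ Q, g ∣ s * y) :
    Module.Projective A Q := by
  classical
  choose g hg hg0 s hs hdvd using h
  have htop : Ideal.span (Set.range fun M : {M : Ideal A // M.IsMaximal} => s M.1 M.2) = ⊤ := by
    by_contra hne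
    obtain ⟨M, hM, hle⟩ := Ideal.exists_le_maximal _ hne
    exact hs M hM (hle (Ideal.subset_span ⟨⟨M, hM⟩, rfl⟩))
  obtain ⟨c, hc⟩ := Finsupp.mem_span_range_iff_exists_finsupp.1 ((Ideal.eq_top_iff_one _).1 htop)
  let T := c.support
  choose φ hφ using fun (M : {M : Ideal A // M.IsMaximal}) (y : Q) => hdvd M.1 M.2 y y.2
  let π : Q →ₗ[A] (T → A) := LinearMap.pi fun M =>
    { toFun := fun y => c M.1 * φ M.1 y
      map_add' := fun y y' => by
        rw [← mul_add]; congr 1
        refine mul_left_cancel₀ (hg0 M.1.1 M.1.2) ?_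
        rw [mul_add, ← hφ, ← hφ, ← hφ, Submodule.coe_add, mul_add]
      map_smul' := fun t y => by
        rw [RingHom.id_apply, smul_eq_mul, ← mul_left_comm]; congr 1
        refine mul_left_cancel₀ (hg0 M.1.1 M.1.2) ?_
        rw [← hφ, mul_left_comm, ← hφ, Submodule.coe_smul, smul_eq_mul]; ring }
  let σ : (T → A) →ₗ[A] Q := Fintype.linearCombination A fun M : T => (⟨g M.1.1 M.1.2, hg M.1.1 M.1.2⟩ : Q)
  refine Module.Projective.of_split π σ (LinearMap.ext fun y => Subtype.ext ?_)
  simp only [σ, π, LinearMap.comp_apply, Fintype.linearCombination_apply, LinearMap.pi_apply,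
    LinearMap.coe_mk, AddHom.coe_mk, AddSubmonoidClass.coe_finsetSum, SetLike.val_smul, smul_eq_mul, LinearMap.id_apply]
  calc ∑ M : T, c M.1 * φ M.1 y * g M.1.1 M.1.2 = ∑ M : T, c M.1 * s M.1.1 M.1.2 * (y : A) :=
        Finset.sum_congr rfl fun M _ => by rw [mul_assoc, mul_comm (φ M.1 y), ← hφ, mul_assoc]
    _ = (∑ M ∈ T, c M * s M.1 M.2) * (y : A) := by
        rw [Finset.sum_mul, ← Finset.sum_coe_sort T (fun M => c M * s M.1 M.2 * (y : A))]
    _ = y := by
        have : ∑ M ∈ T, c M * s M.1 M.2 = 1 := by simpa [Finsupp.sum] using hc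
        rw [this, one_mul]

/-- Auslander–Buchsbaum: a regular local ring is a UFD. -/
theorem ufd_of_isRegularLocalRing (R : Type u) [CommRing R] [IsRegularLocalRing R] :
    UniqueFactorizationMonoid R := by
  suffices ∀ d, ∀ (R : Type u) [CommRing R] [IsRegularLocalRing R],
      (maximalIdeal R).spanFinrank = d → UniqueFactorizationMonoid R from this _ R rfl
  intro d
  induction d using Nat.strong_induction_on with
  | _ d ih =>
    intro R _ _ hd
    classical
    have := isDomain R
    by_cases hF : IsField R
    · letI := hF.toField; infer_instance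
    obtain ⟨x, hx, hx2, -⟩ := exists_mem_notMem_sq_notMem_minimalPrimes hF
    have hx0 : x ≠ 0 := fun h => hx2 (h ▸ zero_mem _)
    have hxp : Prime x := by
      obtain ⟨_, -⟩ := quotient_span_singleton hx hx2
      have := isDomain (R ⧸ span ({x} : Set R))
      exact (Ideal.span_singleton_prime hx0).1 ((Ideal.Quotient.isDomain_iff_prime _).1 this)
    let S : Submonoid R := Submonoid.powers x
    let A := Localization.Away x
    rw [UniqueFactorizationMonoid.iff_localizationAway_of_prime hxp]
    have : IsDomain A := IsLocalization.Away.isDomain A hx0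
    have : IsNoetherianRing A := IsLocalization.isNoetherianRing S A inferInstance
    rw [UniqueFactorizationMonoid.iff_forall_isPrincipal_of_height_eq_one]
    intro Q _ hQ1
    let q : Ideal R := Q.under R
    have hQ : q.map (algebraMap R A) = Q := IsLocalization.map_comap S A Q
    have hq1 : q.height = 1 := by rw [IsLocalization.height_under S Q]; exact hQ1
    have hxq : x ∉ q := fun h => ‹Q.IsPrime›.ne_top (eq_top_of_isUnit_mem _ h
      (IsLocalization.map_units A (⟨x, Submonoid.mem_powers x⟩ : S)))
    have hqfg := IsNoetherian.noetherian q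
    have hloc : ∀ M : Ideal A, M.IsMaximal → ∃ g ∈ Q, g ≠ 0 ∧ ∃ s ∉ M, ∀ y ∈ Q, g ∣ s * y := by
      intro M hM
      let P := M.under R
      have hxP : x ∉ P := fun h => hM.ne_top (eq_top_of_isUnit_mem _ h
        (IsLocalization.map_units A (⟨x, Submonoid.mem_powers x⟩ : S)))
      suffices ∃ g ∈ q, g ≠ 0 ∧ ∃ s ∉ P, ∀ y ∈ q, g ∣ s * y by
        obtain ⟨g, hg, hg0, s, hs, hdvd⟩ := this
        refine ⟨algebraMap R A g, hg, ?_, algebraMap R A s, hs, fun y hy => ?_⟩
        · exact fun h => hg0 ((IsLocalization.to_map_eq_zero_iff A (powers_le_nonZeroDivisors_of_noZeroDivisors hx0)).1 h)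
        · obtain ⟨⟨a, t⟩, rfl⟩ : ∃ z : R × S, IsLocalization.mk' A z.1 z.2 = y :=
            ⟨_, IsLocalization.mk'_sec A y⟩
          have ha : a ∈ q := by
            show algebraMap R A a ∈ Q
            rw [← IsLocalization.mk'_spec A a t]; exact Q.mul_mem_right _ hy
          obtain ⟨r, hr⟩ := hdvd a ha
          exact ⟨IsLocalization.mk' A r t, by rw [IsLocalization.mk'_eq_mul_mk'_one a t, ← mul_assoc, ← map_mul, hr, map_mul, mul_assoc, ← IsLocalization.mk'_eq_mul_mk'_one]⟩
      have hq0 : q ≠ ⊥ := q.ne_bot_of_height_eq_one hq1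
      by_cases hqP : q ≤ P
      swap
      · obtain ⟨s, hs, hsP⟩ := SetLike.not_le_iff_exists.1 hqP
        exact ⟨s, hs, fun h => hsP (h ▸ zero_mem _), s, hsP, fun y _ => dvd_mul_right _ _⟩
      let RP := Localization.AtPrime P
      have hreg : IsRegularLocalRing RP := isRegularLocalRing_localization R P
      have hlt : (maximalIdeal RP).spanFinrank < d := by
        have h1 : P < maximalIdeal R :=
          lt_of_le_of_ne (le_maximalIdeal (Ideal.IsPrime.ne_top inferInstance)) (fun h => hxP (h ▸ hx))
        have h2 := Ideal.height_strict_mono_of_isPrime_of_isPrime h1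
        rw [← WithBot.coe_lt_coe, ← IsLocalization.AtPrime.ringKrullDim_eq_height P RP,
          IsLocalRing.maximalIdeal_height_eq_ringKrullDim, ← hreg.spanFinrank_maximalIdeal,
          ← IsRegularLocalRing.spanFinrank_maximalIdeal, hd] at h2
        exact_mod_cast h2
      have := ih _ hlt RP rfl
      have := isDomain RP
      have hdis : Disjoint (P.primeCompl : Set R) (q : Set R) :=
        Set.disjoint_left.2 fun a ha haq => ha (hqP haq)
      have := IsLocalization.isPrime_of_isPrime_disjoint P.primeCompl RP q inferInstance hdis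
      have hu := IsLocalization.under_map_of_isPrime_disjoint P.primeCompl RP inferInstance hdis
      have hprin : (q.map (algebraMap R RP)).IsPrincipal :=
        UniqueFactorizationMonoid.isPrincipal_of_height_eq_one (by
          rw [← IsLocalization.height_under P.primeCompl, hu, hq1])
      obtain ⟨G, hG⟩ := hprin
      obtain ⟨g, t, rfl⟩ := IsLocalization.exists_mk'_eq P.primeCompl G
      have hu' : IsLocalization.mk' RP g t = algebraMap R RP g * IsLocalization.mk' RP 1 t :=
        IsLocalization.mk'_eq_mul_mk'_one g t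
      have hgq : g ∈ q := by
        rw [← hu]
        refine Ideal.mem_comap.2 ?_
        rw [← IsLocalization.mk'_spec RP g t, hG]
        exact Ideal.mul_mem_right _ _ (Submodule.mem_span_singleton_self _)
      have hgdvd : ∀ y ∈ q, ∃ s ∉ P, g ∣ s * y := by
        intro y hy
        have := Ideal.mem_map_of_mem (algebraMap R RP) hy
        rw [hG] at this
        obtain ⟨r, hr⟩ := Submodule.mem_span_singleton.1 this
        obtain ⟨r, u, rfl⟩ := IsLocalization.exists_mk'_eq P.primeCompl r
        rw [smul_eq_mul, ← IsLocalization.mk'_mul, IsLocalization.mk'_eq_iff_eq_mul, ← map_mul,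
          IsLocalization.eq_iff_exists P.primeCompl] at hr
        obtain ⟨w, hw⟩ := hr
        refine ⟨(w : R) * ((u * t : P.primeCompl) : R), (w * (u * t)).2, (w : R) * r, ?_⟩
        linear_combination -hw
      have hg0 : g ≠ 0 := by
        rintro rfl
        obtain ⟨y, hy, hy0⟩ := Submodule.exists_mem_ne_zero_of_ne_bot hq0
        obtain ⟨s, hs, c, hc⟩ := hgdvd y hy
        rw [zero_mul, mul_eq_zero] at hc
        exact hc.elim (fun h => hs (h ▸ zero_mem _)) hy0
      obtain ⟨T, hT⟩ := hqfg
      choose σ hσ hσdvd using fun y : T => hgdvd y.1 (hT ▸ Submodule.subset_span y.2)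
      refine ⟨g, hgq, hg0, ∏ y, σ y, fun h => ?_, fun y hy => ?_⟩
      · obtain ⟨y, -, hy⟩ := Ideal.IsPrime.prod_mem_iff.1 h
        exact hσ y hy
      · rw [← hT] at hy
        induction hy using Submodule.span_induction with
        | mem z hz =>
          obtain ⟨c, hc⟩ := hσdvd ⟨z, hz⟩
          rw [← Finset.prod_erase_mul _ _ (Finset.mem_univ (⟨z, hz⟩ : T)), mul_assoc]
          exact Dvd.dvd.mul_left ⟨c, hc⟩ _
        | zero => simp
        | add _ _ _ _ ha hb => rw [mul_add]; exact dvd_add ha hb
        | smul c _ _ ha => rw [smul_eq_mul, mul_left_comm]; exact ha.mul_left _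
    have hQproj := projective_of_locally_principal Q hloc
    let eQ : LocalizedModule S q ≃ₗ[A] (q.map (algebraMap R A) : Ideal A) :=
      (IsLocalizedModule.iso S (Algebra.idealMap A q)).extendScalarsOfIsLocalization S A
    have hp : Module.Projective A (LocalizedModule S q) :=
      Module.Projective.of_equiv ((LinearEquiv.ofEq _ _ hQ).symm.trans eQ.symm)
    have hfin : Module.Finite R q := Module.Finite.iff_fg.2 hqfg
    obtain ⟨a, b, ⟨e⟩⟩ := stablyFreeFin_of_pd S _ q (pd_le_spanFinrank _ R rfl q) hp
    exact isPrincipal_of_stablyFreeFin Q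
      ⟨a, b, ⟨(LinearEquiv.prodCongr ((LinearEquiv.ofEq _ _ hQ).symm.trans eQ.symm) (LinearEquiv.refl _ _)).trans e⟩⟩

end Groth.Agent.RegLoc
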