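import Groth.Agent.Lib.RegLoc.GlobalDim
import Mathlib.RingTheory.Ideal.GoingDown
import Mathlib.RingTheory.Ideal.KrullsHeightTheorem
import Mathlib.RingTheory.Flat.FaithfullyFlat.Algebra

/-!
# Flat local maps with `m_R S = m_S`
-/

open IsLocalRing Ideal

namespace Groth.Agent.RegLoc

universe u

variable {R S : Type u} [CommRing R] [CommRing S] [IsLocalRing R] [IsLocalRing S] [IsNoetherianRing R]
  [IsNoetherianRing S] [Algebra R S] [IsLocalHom (algebraMap R S)] [Module.Flat R S]

theorem ringKrullDim_eq_of_map_maximalIdeal (h : (maximalIdeal R).map (algebraMap R S) = maximalIdeal S) :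
    ringKrullDim S = ringKrullDim R := by
  haveI : (maximalIdeal S).LiesOver (maximalIdeal R) := ⟨(IsLocalRing.maximalIdeal_comap _).symm⟩
  have hh := Ideal.height_eq_height_add_of_liesOver_of_hasGoingDown (maximalIdeal R) (maximalIdeal S)
  have h0 : ((maximalIdeal S).map (Ideal.Quotient.mk ((maximalIdeal R).map (algebraMap R S)))) = ⊥ :=
    map_mk_eq_bot_of_le h.ge
  haveI : Nontrivial (S ⧸ (maximalIdeal R).map (algebraMap R S)) := by
    rw [Ideal.Quotient.nontrivial_iff, h]
    exact (maximalIdeal.isMaximal _).ne_top
  rw [h0, Ideal.height_bot, add_zero] at hh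
  rw [← maximalIdeal_height_eq_ringKrullDim, hh, maximalIdeal_height_eq_ringKrullDim]

theorem isRegularLocalRing_iff_of_map_maximalIdeal (h : (maximalIdeal R).map (algebraMap R S) = maximalIdeal S) :
    IsRegularLocalRing R ↔ IsRegularLocalRing S := by
  constructor
  · intro hR
    refine IsRegularLocalRing.of_spanFinrank_maximalIdeal_le _ ?_
    rw [ringKrullDim_eq_of_map_maximalIdeal h, ← IsRegularLocalRing.spanFinrank_maximalIdeal]
    have hfg := IsNoetherian.noetherian (maximalIdeal R)
    have hle : (maximalIdeal S).spanFinrank ≤ (maximalIdeal R).spanFinrank := by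
      rw [← h]
      conv_lhs => rw [← (maximalIdeal R).span_generators]
      rw [show Ideal.map (algebraMap R S) (Submodule.span R (maximalIdeal R).generators) =
        span (algebraMap R S '' (maximalIdeal R).generators) from map_span _ _,
        ← Submodule.FG.generators_ncard hfg]
      exact (Submodule.spanFinrank_span_le_ncard_of_finite ((Submodule.FG.finite_generators hfg).image _)).trans
        (Set.ncard_image_le (Submodule.FG.finite_generators hfg))
    exact_mod_cast hle
  · intro _
    exact isRegularLocalRing_of_flat R S

end Groth.Agent.RegLoc
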