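import Mathlib.RingTheory.RegularLocalRing.Defs
import Mathlib.RingTheory.KrullDimension.Regular
import Mathlib.RingTheory.Ideal.MinimalPrime.Noetherian
import Mathlib.RingTheory.Nakayama

/-!
# Regular local rings: domain, quotients by part of a regular system of parameters
-/

open IsLocalRing Ideal

namespace Groth.Agent.RegLoc

universe u

variable {R : Type u} [CommRing R] [IsLocalRing R] [IsNoetherianRing R]

/-- The Krull dimension of a Noetherian local ring is a natural number. -/
lemma exists_dim_eq_nat : ∃ k : ℕ, ringKrullDim R = k := by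
  have h1 : (0 : WithBot ℕ∞) ≤ ringKrullDim R := ringKrullDim_nonneg_of_nontrivial
  have h2 := ringKrullDim_le_spanFinrank_maximalIdeal R
  generalize ringKrullDim R = d at h1 h2
  cases d with
  | bot => exact absurd h1 (by simp)
  | coe e =>
    have : e ≤ ((maximalIdeal R).spanFinrank : ℕ∞) := WithBot.coe_le_coe.1 h2
    obtain ⟨k, rfl⟩ := ENat.ne_top_iff_exists.1 (ne_top_of_le_ne_top (ENat.coe_ne_top _) this)
    exact ⟨k, rfl⟩

omit [IsLocalRing R] [IsNoetherianRing R] in
lemma isLocalRing_quotient [IsLocalRing R] {I : Ideal R} (hI : I ≠ ⊤) : IsLocalRing (R ⧸ I) :=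
  have : Nontrivial (R ⧸ I) := Ideal.Quotient.nontrivial_iff.2 hI
  .of_surjective' _ Ideal.Quotient.mk_surjective

omit [IsNoetherianRing R] in
lemma maximalIdeal_quotient {I : Ideal R} [IsLocalRing (R ⧸ I)] :
    maximalIdeal (R ⧸ I) = (maximalIdeal R).map (Ideal.Quotient.mk I) :=
  (map_maximalIdeal_of_surjective _ Ideal.Quotient.mk_surjective).symm

/-- An element outside `m ^ 2` is part of a minimal generating set of `m`, so `R/(x)` needs
one generator fewer. -/
lemma spanFinrank_quotient_span_singleton_lt {x : R} (hx : x ∈ maximalIdeal R)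
    (hx2 : x ∉ maximalIdeal R ^ 2) [IsLocalRing (R ⧸ span ({x} : Set R))] :
    (maximalIdeal (R ⧸ span ({x} : Set R))).spanFinrank < (maximalIdeal R).spanFinrank := by
  classical
  have hfg := IsNoetherian.noetherian (maximalIdeal R)
  have hfin := Submodule.FG.finite_generators hfg
  set s := hfin.toFinset with hs
  have hspan : span (s : Set R) = maximalIdeal R := by
    rw [hs, Set.Finite.coe_toFinset]; exact (maximalIdeal R).span_generators
  have hmem : ∀ y ∈ s, y ∈ maximalIdeal R := fun y hy => hspan ▸ subset_span hy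
  obtain ⟨a, ha⟩ := Submodule.mem_span_finset'.1
    (show x ∈ Submodule.span R (s : Set R) by rw [show Submodule.span R (s : Set R) = maximalIdeal R from hspan]; exact hx)
  obtain ⟨y, hy⟩ : ∃ y : s, IsUnit (a y) := by
    by_contra hc
    push Not at hc
    refine hx2 (ha ▸ Submodule.sum_mem _ fun y _ => ?_)
    rw [pow_two, smul_eq_mul]
    exact mul_mem_mul ((mem_maximalIdeal _).2 (hc y)) (hmem y y.2)
  have hy' : (y : R) ∈ span ({x} : Set R) ⊔ span (s.erase (y : R) : Set R) := by
    obtain ⟨u, hu⟩ := hy.exists_left_inv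
    have e1 : a y • (y : R) = x - ∑ z ∈ Finset.univ.erase y, a z • (z : R) := by
      rw [← ha, ← Finset.add_sum_erase _ _ (Finset.mem_univ y)]; abel
    have hay : a y • (y : R) ∈ span ({x} : Set R) ⊔ span (s.erase (y : R) : Set R) := by
      rw [e1]
      refine sub_mem (Submodule.mem_sup_left (mem_span_singleton_self x))
        (Submodule.mem_sup_right (Submodule.sum_mem _ fun z hz => Submodule.smul_mem _ _ (subset_span ?_)))
      exact Finset.mem_coe.2 (Finset.mem_erase.2 ⟨fun h => Finset.ne_of_mem_erase hz (Subtype.ext h), z.2⟩)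
    have := mul_mem_left _ u hay
    rwa [smul_eq_mul, ← mul_assoc, hu, one_mul] at this
  have hle : maximalIdeal (R ⧸ span ({x} : Set R)) =
      span ((s.erase (y : R)).image (Ideal.Quotient.mk (span ({x} : Set R))) : Set (R ⧸ span ({x} : Set R))) := by
    rw [maximalIdeal_quotient, Finset.coe_image, ← map_span]
    refine le_antisymm ?_ (map_mono (span_le.2 fun z hz => hmem z (Finset.mem_of_mem_erase hz)))
    rw [map_le_iff_le_comap, comap_map_of_surjective _ Ideal.Quotient.mk_surjective]
    change maximalIdeal R ≤ _ ⊔ RingHom.ker _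
    rw [mk_ker, sup_comm]
    conv_lhs => rw [← hspan]
    rw [span_le]
    intro z hz
    by_cases h : z = y
    · exact h ▸ hy'
    · exact Submodule.mem_sup_right (subset_span (Finset.mem_coe.2 (Finset.mem_erase.2 ⟨h, hz⟩)))
  rw [hle]
  refine lt_of_le_of_lt ((Submodule.spanFinrank_span_le_ncard_of_finite (Finset.finite_toSet _)).trans
    ((Set.ncard_coe_finset _).le.trans Finset.card_image_le)) ?_
  rw [← Submodule.FG.generators_ncard hfg, Set.ncard_eq_toFinset_card _ hfin, ← hs]
  exact Finset.card_erase_lt_of_mem y.2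

/-- `R/(x)` is regular of dimension one less, for `x` outside `m ^ 2` in a regular local ring. -/
lemma quotient_span_singleton [IsRegularLocalRing R] {x : R} (hx : x ∈ maximalIdeal R)
    (hx2 : x ∉ maximalIdeal R ^ 2) :
    ∃ _ : IsRegularLocalRing (R ⧸ span ({x} : Set R)),
      (maximalIdeal (R ⧸ span ({x} : Set R))).spanFinrank + 1 = (maximalIdeal R).spanFinrank := by
  haveI := isLocalRing_quotient (I := span ({x} : Set R))
    (ne_top_of_le_ne_top (maximalIdeal.isMaximal R).ne_top ((span_singleton_le_iff_mem _).2 hx))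
  have hlt := spanFinrank_quotient_span_singleton_lt hx hx2
  obtain ⟨k, hk⟩ := exists_dim_eq_nat (R := R ⧸ span ({x} : Set R))
  have hk' : k ≤ (maximalIdeal (R ⧸ span ({x} : Set R))).spanFinrank := by
    have := ringKrullDim_le_spanFinrank_maximalIdeal (R ⧸ span ({x} : Set R))
    rw [hk] at this
    exact_mod_cast this
  have hdim : ringKrullDim R ≤ ringKrullDim (R ⧸ span ({x} : Set R)) + 1 := by
    have h1 := ringKrullDim_le_ringKrullDim_quotient_add_encard ({x} : Set R)
      (by rw [ringJacobson_eq_maximalIdeal]; simpa using hx)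
    simpa [Set.encard_singleton] using h1
  rw [← IsRegularLocalRing.spanFinrank_maximalIdeal, hk] at hdim
  have hdim' : (maximalIdeal R).spanFinrank ≤ k + 1 := by exact_mod_cast hdim
  have he : k = (maximalIdeal (R ⧸ span ({x} : Set R))).spanFinrank := by omega
  exact ⟨(isRegularLocalRing_iff _).2 (by rw [hk, he]), by omega⟩

lemma spanFinrank_maximalIdeal_eq_zero_iff : (maximalIdeal R).spanFinrank = 0 ↔ IsField R := by
  rw [Submodule.spanFinrank_eq_zero_iff_eq_bot (IsNoetherian.noetherian _), isField_iff_maximalIdeal_eq]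

/-- In a regular local ring of positive dimension, some parameter avoids `m ^ 2` and all minimal primes. -/
lemma exists_mem_notMem_sq_notMem_minimalPrimes [IsRegularLocalRing R] (h : ¬ IsField R) :
    ∃ x ∈ maximalIdeal R, x ∉ maximalIdeal R ^ 2 ∧ ∀ p ∈ minimalPrimes R, x ∉ p := by
  classical
  set P := (minimalPrimes.finite_of_isNoetherianRing R).toFinset
  by_contra hc
  push Not at hc
  have hsub : (maximalIdeal R : Set R) ⊆ ⋃ i ∈ (↑(insert (maximalIdeal R ^ 2) P) : Set (Ideal R)), (i : Set R) := by
    intro x hx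
    simp only [Set.mem_iUnion, Finset.coe_insert, Set.mem_insert_iff, SetLike.mem_coe, exists_prop]
    by_cases h2 : x ∈ maximalIdeal R ^ 2
    · exact ⟨_, Or.inl rfl, h2⟩
    · obtain ⟨p, hp, hxp⟩ := hc x hx h2
      exact ⟨p, Or.inr (by simpa [P] using hp), hxp⟩
  obtain ⟨i, hi, hle⟩ := (subset_union_prime (maximalIdeal R ^ 2) (maximalIdeal R ^ 2)
    (fun i hi hne _ => by
      have : i ∈ minimalPrimes R := by simpa [P] using (Finset.mem_insert.1 hi).resolve_left hne
      exact this.1.1)).1 hsub
  rcases Finset.mem_insert.1 hi with rfl | hi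
  · apply h
    rw [isField_iff_maximalIdeal_eq]
    refine Submodule.eq_bot_of_le_smul_of_le_jacobson_bot (maximalIdeal R) _ (IsNoetherian.noetherian _) ?_
      (maximalIdeal_le_jacobson _)
    rw [smul_eq_mul, ← pow_two]
    exact hle
  · have hi' : i ∈ minimalPrimes R := by simpa [P] using hi
    haveI := hi'.1.1
    have hm : maximalIdeal R = i := le_antisymm hle (le_maximalIdeal hi'.1.1.ne_top)
    have h0 : (maximalIdeal R).height = 0 := by
      rw [hm, Ideal.height_eq_zero_iff]
      exact hi'
    have := IsRegularLocalRing.spanFinrank_maximalIdeal (R := R)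
    rw [← maximalIdeal_height_eq_ringKrullDim, h0] at this
    exact h (spanFinrank_maximalIdeal_eq_zero_iff.1 (by exact_mod_cast this))

omit [IsLocalRing R] [IsNoetherianRing R] in
/-- A regular local ring is a domain. -/
theorem isDomain (R : Type u) [CommRing R] [IsRegularLocalRing R] : IsDomain R := by
  suffices ∀ n, ∀ (S : Type u) [CommRing S] [IsRegularLocalRing S],
      (maximalIdeal S).spanFinrank = n → IsDomain S from this _ R rfl
  intro n
  induction n using Nat.strong_induction_on with
  | _ n ih =>
    intro S _ _ hn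
    by_cases hF : IsField S
    · exact hF.isDomain
    obtain ⟨x, hx, hx2, hxp⟩ := exists_mem_notMem_sq_notMem_minimalPrimes hF
    obtain ⟨_, hlt⟩ := quotient_span_singleton hx hx2
    haveI := ih _ (by omega) (S ⧸ span ({x} : Set S)) rfl
    haveI hpx : (span ({x} : Set S)).IsPrime := (Quotient.isDomain_iff_prime _).1 inferInstance
    obtain ⟨p, hp, hle⟩ := exists_minimalPrimes_le (J := span ({x} : Set S)) (I := (⊥ : Ideal S)) bot_le
    have hp' : p ∈ minimalPrimes S := hp
    haveI := hp'.1.1
    have hxmem : x ∉ p := hxp p hp'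
    have : p ≤ maximalIdeal S • p := by
      intro y hy
      obtain ⟨a, rfl⟩ := mem_span_singleton'.1 (hle hy)
      rw [mul_comm, smul_eq_mul]
      exact mul_mem_mul hx (((IsPrime.mem_or_mem inferInstance hy).resolve_right hxmem))
    have hp0 := Submodule.eq_bot_of_le_smul_of_le_jacobson_bot (maximalIdeal S) p
      (IsNoetherian.noetherian _) this (maximalIdeal_le_jacobson _)
    have : (⊥ : Ideal S).IsPrime := hp0 ▸ inferInstance
    exact IsDomain.of_bot_isPrime S

omit [IsLocalRing R] [IsNoetherianRing R] in
/-- An element of a minimal generating set lies outside `m ^ 2`. -/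
lemma notMem_sq_of_span_range [IsLocalRing R] [IsNoetherianRing R] {n : ℕ} (x : Fin (n + 1) → R)
    (hx : span (Set.range x) = maximalIdeal R) (hn : (maximalIdeal R).spanFinrank = n + 1) :
    x 0 ∉ maximalIdeal R ^ 2 := by
  intro h2
  have hle : maximalIdeal R ≤ span (Set.range (x ∘ Fin.succ)) ⊔ maximalIdeal R • maximalIdeal R := by
    conv_lhs => rw [← hx]
    rw [span_le]
    rintro _ ⟨i, rfl⟩
    refine Fin.cases ?_ (fun j => ?_) i
    · exact Submodule.mem_sup_right (by rwa [smul_eq_mul, ← pow_two])
    · exact Submodule.mem_sup_left (subset_span ⟨j, rfl⟩)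
  have h := Submodule.le_of_le_smul_of_le_jacobson_bot (IsNoetherian.noetherian (maximalIdeal R))
    (maximalIdeal_le_jacobson _) hle
  have heq : maximalIdeal R = span (Set.range (x ∘ Fin.succ)) :=
    le_antisymm h (span_le.2 (by rintro _ ⟨j, rfl⟩; exact hx ▸ subset_span ⟨_, rfl⟩))
  have : (maximalIdeal R).spanFinrank ≤ n := by
    rw [heq, ← Set.image_univ]
    refine (Submodule.spanFinrank_span_le_ncard_of_finite (Set.finite_univ.image _)).trans
      ((Set.ncard_image_le Set.finite_univ).trans ?_)
    simp [Set.ncard_univ]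
  omega

open RingTheory.Sequence in
omit [IsLocalRing R] [IsNoetherianRing R] in
/-- A minimal system of generators of the maximal ideal of a regular local ring is a regular sequence. -/
theorem isRegular_of_span_range : ∀ (n : ℕ) (R : Type u) [CommRing R] [IsRegularLocalRing R] (x : Fin n → R),
    span (Set.range x) = maximalIdeal R → (maximalIdeal R).spanFinrank = n → IsRegular R (List.ofFn x) := by
  intro n
  induction n with
  | zero => intro R _ _ x _ _; simpa using IsRegular.nil R R
  | succ n ih =>
    intro R _ _ x hx hn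
    haveI := isDomain R
    have hx0 : x 0 ∈ maximalIdeal R := hx ▸ subset_span ⟨_, rfl⟩
    have hx2 := notMem_sq_of_span_range x hx hn
    obtain ⟨_, hq⟩ := quotient_span_singleton hx0 hx2
    rw [List.ofFn_succ, isRegular_cons_iff']
    refine ⟨IsRegular.of_ne_zero (fun h => hx2 (by rw [h]; exact zero_mem _)) |>.left.isSMulRegular, ?_⟩
    have hrec := ih (R ⧸ span ({x 0} : Set R)) (fun i => Ideal.Quotient.mk _ (x i.succ)) ?_ (by omega)
    · rw [List.map_ofFn]
      let e : QuotSMulTop (x 0) R ≃ₗ[R] R ⧸ span ({x 0} : Set R) :=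
        (QuotSMulTop.equivQuotTensor (x 0) R).trans (TensorProduct.rid R _)
      refine (LinearEquiv.isRegular_congr (M₂ := R ⧸ span ({x 0} : Set R))
        (e.extendScalarsOfSurjective Ideal.Quotient.mk_surjective) _).2 ?_
      exact hrec
    · rw [maximalIdeal_quotient, ← hx, map_span]
      refine le_antisymm (span_mono ?_) (span_le.2 ?_)
      · rintro _ ⟨i, rfl⟩; exact ⟨_, ⟨_, rfl⟩, rfl⟩
      · rintro _ ⟨_, ⟨i, rfl⟩, rfl⟩
        refine Fin.cases ?_ (fun j => ?_) i
        · rw [SetLike.mem_coe, Ideal.Quotient.eq_zero_iff_mem.2 (mem_span_singleton_self _)]; exact zero_mem _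
        · exact subset_span ⟨j, rfl⟩

/-- If `x` is a nonzerodivisor and `R/(x)` is regular, so is `R`. -/
theorem of_quotient_span_singleton {x : R} (hx : x ∈ maximalIdeal R) (hreg : x ∈ nonZeroDivisors R)
    [IsRegularLocalRing (R ⧸ span ({x} : Set R))] : IsRegularLocalRing R := by
  classical
  refine IsRegularLocalRing.of_spanFinrank_maximalIdeal_le _ ?_
  rw [← ringKrullDim_quotient_span_singleton_succ_eq_ringKrullDim_of_mem_nonZeroDivisors hreg hx,
    ← IsRegularLocalRing.spanFinrank_maximalIdeal]
  suffices (maximalIdeal R).spanFinrank ≤ (maximalIdeal (R ⧸ span ({x} : Set R))).spanFinrank + 1 by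
    exact_mod_cast this
  set S := R ⧸ span ({x} : Set R)
  have hfg := IsNoetherian.noetherian (maximalIdeal S)
  have hfin := Submodule.FG.finite_generators hfg
  obtain ⟨f, hf⟩ := (Ideal.Quotient.mk_surjective (I := span ({x} : Set R))).hasRightInverse
  set t : Finset R := insert x (hfin.toFinset.image f)
  have ht : maximalIdeal R = span (t : Set R) := by
    refine le_antisymm (fun r hr => ?_) (span_le.2 ?_)
    · have h1 : Ideal.Quotient.mk (span ({x} : Set R)) r ∈ (span (t : Set R)).map (Ideal.Quotient.mk _) := by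
        have h2 : Ideal.Quotient.mk (span ({x} : Set R)) r ∈ maximalIdeal S :=
          maximalIdeal_quotient (R := R) (I := span ({x} : Set R)) ▸ mem_map_of_mem _ hr
        have h3 : maximalIdeal S ≤ (span (t : Set R)).map (Ideal.Quotient.mk _) := by
          conv_lhs => rw [← (maximalIdeal S).span_generators]
          refine span_le.2 fun z hz => ?_
          rw [← hf z]
          exact mem_map_of_mem _ (subset_span (by simp [t, hfin.mem_toFinset]; exact Or.inr ⟨z, hz, rfl⟩))
        exact h3 h2
      rw [← mem_comap, comap_map_of_surjective _ Ideal.Quotient.mk_surjective] at h1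
      change r ∈ _ ⊔ RingHom.ker _ at h1
      rw [mk_ker] at h1
      have hle : span (t : Set R) ⊔ span ({x} : Set R) ≤ span (t : Set R) :=
        sup_le le_rfl ((span_singleton_le_iff_mem _).2 (subset_span (by simp [t])))
      exact hle h1
    · intro z hz
      simp only [t, Finset.coe_insert, Finset.coe_image, Set.Finite.coe_toFinset, Set.mem_insert_iff, Set.mem_image] at hz
      rcases hz with rfl | ⟨w, hw, rfl⟩
      · exact hx
      · have : w ∈ maximalIdeal S := (maximalIdeal S).span_generators ▸ subset_span hw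
        rw [SetLike.mem_coe, mem_maximalIdeal, mem_nonunits_iff]
        intro hu
        rw [← hf w] at this
        exact ((mem_maximalIdeal (Ideal.Quotient.mk (span ({x} : Set R)) (f w))).1 this) (hu.map _)
  rw [ht]
  refine (Submodule.spanFinrank_span_le_ncard_of_finite (Finset.finite_toSet _)).trans ?_
  rw [Set.ncard_coe_finset, ← Submodule.FG.generators_ncard hfg, Set.ncard_eq_toFinset_card _ hfin]
  exact (Finset.card_insert_le _ _).trans (Nat.add_le_add_right Finset.card_image_le 1)

end Groth.Agent.RegLoc
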