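import Groth.Agent.Lib.RegLoc.GlobalDim
import Mathlib.RingTheory.Localization.AtPrime.Basic
import Mathlib.RingTheory.Derivation.Basic
import Mathlib.RingTheory.SurjectiveOnStalks
import Mathlib.LinearAlgebra.Matrix.NonsingularInverse

/-!
# Regular quotients: linearly independent elements of `m / m ^ 2`, localisation of quotients
-/

open IsLocalRing Ideal

namespace Groth.Agent.RegLoc

universe u

/-- The localisation of `R/I` at a prime is a quotient of the localisation of `R`. -/
noncomputable def localizationQuotientEquiv {R : Type u} [CommRing R] (I : Ideal R)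
    (P : Ideal (R ⧸ I)) [P.IsPrime] :
    (Localization.AtPrime (P.comap (Ideal.Quotient.mk I)) ⧸
      I.map (algebraMap R (Localization.AtPrime (P.comap (Ideal.Quotient.mk I))))) ≃+* Localization.AtPrime P := by
  let φ := Localization.localRingHom (P.comap (Ideal.Quotient.mk I)) P (Ideal.Quotient.mk I) rfl
  have hsurj : Function.Surjective φ :=
    RingHom.surjectiveOnStalks_of_surjective Ideal.Quotient.mk_surjective P ‹P.IsPrime›
  refine (Ideal.quotEquivOfEq ?_).trans (RingHom.quotientKerEquivOfSurjective hsurj)
  apply le_antisymm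
  · rw [map_le_iff_le_comap]
    intro a ha
    rw [mem_comap, RingHom.mem_ker]
    show φ (algebraMap R _ a) = 0
    rw [show φ (algebraMap R _ a) = algebraMap (R ⧸ I) (Localization.AtPrime P) (Ideal.Quotient.mk I a) from
      Localization.localRingHom_to_map _ _ _ _ a, Ideal.Quotient.eq_zero_iff_mem.2 ha, map_zero]
  · intro z hz
    obtain ⟨a, s, rfl⟩ := IsLocalization.exists_mk'_eq (P.comap (Ideal.Quotient.mk I)).primeCompl z
    rw [RingHom.mem_ker] at hz
    simp only [φ, Localization.localRingHom_mk'] at hz
    obtain ⟨t, ht⟩ := (IsLocalization.mk'_eq_zero_iff _ _).1 hz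
    obtain ⟨t', ht'⟩ := Ideal.Quotient.mk_surjective (I := I) t.1
    have htI : t' * a ∈ I := Ideal.Quotient.eq_zero_iff_mem.1 (by rw [map_mul, ht']; exact ht)
    have ht'q : t' ∈ (P.comap (Ideal.Quotient.mk I)).primeCompl := by
      show Ideal.Quotient.mk I t' ∉ P
      rw [ht']; exact t.2
    have : IsLocalization.mk' (Localization.AtPrime (P.comap (Ideal.Quotient.mk I))) a s =
        IsLocalization.mk' (Localization.AtPrime (P.comap (Ideal.Quotient.mk I))) (t' * a) (⟨t', ht'q⟩ * s) :=
      IsLocalization.mk'_eq_of_eq (by simp only [Submonoid.coe_mul]; ring)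
    rw [this, IsLocalization.mk'_eq_mul_mk'_one]
    exact mul_mem_right _ _ (mem_map_of_mem _ htI)

theorem isRegularLocalRing_localization_quotient {R : Type u} [CommRing R] (I : Ideal R)
    (P : Ideal (R ⧸ I)) [P.IsPrime]
    [IsRegularLocalRing (Localization.AtPrime (P.comap (Ideal.Quotient.mk I)) ⧸
      I.map (algebraMap R (Localization.AtPrime (P.comap (Ideal.Quotient.mk I)))))] :
    IsRegularLocalRing (Localization.AtPrime P) :=
  IsRegularLocalRing.of_ringEquiv (localizationQuotientEquiv I P)

/-- Elements of `m` linearly independent modulo `m ^ 2` cut out a regular quotient and form a regular sequence. -/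
theorem regular_of_independent : ∀ (k : ℕ) (R : Type u) [CommRing R] [IsRegularLocalRing R] (f : Fin k → R),
    (∀ i, f i ∈ maximalIdeal R) →
    (∀ a : Fin k → R, ∑ i, a i * f i ∈ maximalIdeal R ^ 2 → ∀ i, a i ∈ maximalIdeal R) →
    IsRegularLocalRing (R ⧸ span (Set.range f)) ∧ RingTheory.Sequence.IsRegular R (List.ofFn f) := by
  intro k
  induction k with
  | zero =>
    intro R _ _ f _ _
    refine ⟨?_, by simpa using RingTheory.Sequence.IsRegular.nil R R⟩
    exact IsRegularLocalRing.of_ringEquiv ((Ideal.quotEquivOfEq (I := span (Set.range f)) (J := ⊥) (by simp)).trans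
      (RingEquiv.quotientBot R)).symm
  | succ k ih =>
    intro R _ _ f hf hind
    have := isDomain R
    have hf2 : f 0 ∉ maximalIdeal R ^ 2 := fun h => by
      have := hind (Pi.single 0 1) (by simpa [Pi.single_apply] using h) 0
      simp at this
    obtain ⟨_, -⟩ := quotient_span_singleton (hf 0) hf2
    set K := span ({f 0} : Set R) with hK
    let g : Fin k → R ⧸ K := fun i => Ideal.Quotient.mk K (f i.succ)
    have hg : ∀ i, g i ∈ maximalIdeal (R ⧸ K) := fun i =>
      maximalIdeal_quotient (R := R) (I := K) ▸ mem_map_of_mem _ (hf _)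
    have hgind : ∀ a : Fin k → R ⧸ K, ∑ i, a i * g i ∈ maximalIdeal (R ⧸ K) ^ 2 →
        ∀ i, a i ∈ maximalIdeal (R ⧸ K) := by
      intro a ha
      choose b hb using fun i => Ideal.Quotient.mk_surjective (a i)
      have h1 : Ideal.Quotient.mk K (∑ i, b i * f i.succ) ∈ (maximalIdeal R ^ 2).map (Ideal.Quotient.mk K) := by
        rw [Ideal.map_pow, ← maximalIdeal_quotient (R := R) (I := K), map_sum]
        simpa [g, map_mul, hb] using ha
      rw [← mem_comap, comap_map_of_surjective _ Ideal.Quotient.mk_surjective] at h1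
      change _ ∈ _ ⊔ RingHom.ker _ at h1
      rw [mk_ker] at h1
      obtain ⟨u, hu, v, hv, huv⟩ := Submodule.mem_sup.1 h1
      obtain ⟨c, rfl⟩ := mem_span_singleton'.1 hv
      have h2 := hind (Fin.cons (-c) b) (by
        rw [Fin.sum_univ_succ]
        simp only [Fin.cons_zero, Fin.cons_succ]
        rw [← huv]
        ring_nf
        simpa using hu)
      intro i
      rw [← hb, maximalIdeal_quotient (R := R) (I := K)]
      exact mem_map_of_mem _ (by simpa using h2 i.succ)
    obtain ⟨hreg, hseq⟩ := ih (R ⧸ K) g hg hgind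
    constructor
    · have hle : K ≤ span (Set.range f) := span_mono (by rintro _ rfl; exact ⟨0, rfl⟩)
      refine @IsRegularLocalRing.of_ringEquiv _ _ hreg _ _ ((Ideal.quotEquivOfEq ?_).trans (DoubleQuot.quotQuotEquivQuotOfLE hle))
      rw [map_span]
      refine le_antisymm (span_mono ?_) (span_le.2 ?_)
      · rintro _ ⟨i, rfl⟩; exact ⟨_, ⟨_, rfl⟩, rfl⟩
      · rintro _ ⟨_, ⟨i, rfl⟩, rfl⟩
        refine Fin.cases ?_ (fun j => ?_) i
        · rw [SetLike.mem_coe, Ideal.Quotient.eq_zero_iff_mem.2 (mem_span_singleton_self _)]; exact zero_mem _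
        · exact subset_span ⟨j, rfl⟩
    · rw [List.ofFn_succ, RingTheory.Sequence.isRegular_cons_iff']
      refine ⟨fun a b h => mul_left_cancel₀ (fun h0 => hf2 (by rw [h0]; exact zero_mem _)) h, ?_⟩
      rw [List.map_ofFn]
      let e : QuotSMulTop (f 0) R ≃ₗ[R] R ⧸ span ({f 0} : Set R) :=
        (QuotSMulTop.equivQuotTensor (f 0) R).trans (TensorProduct.rid R _)
      refine (LinearEquiv.isRegular_congr (M₂ := R ⧸ span ({f 0} : Set R))
        (e.extendScalarsOfSurjective Ideal.Quotient.mk_surjective) _).2 ?_
      exact hseq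

/-- A derivation maps `m ^ 2` into `m`. -/
lemma derivation_mem_of_mem_sq {R : Type u} [CommRing R] {I : Ideal R} (D : Derivation ℤ R R) {x : R}
    (hx : x ∈ I ^ 2) : D x ∈ I := by
  rw [pow_two] at hx
  induction hx using Submodule.mul_induction_on' with
  | mem_mul_mem a ha b hb =>
    rw [D.leibniz, smul_eq_mul, smul_eq_mul]
    exact add_mem (mul_mem_right _ _ ha) (mul_mem_right _ _ hb)
  | add a _ b _ ha hb => rw [map_add]; exact add_mem ha hb

/-- Cutting a regular ring by an element on which some derivation is invertible gives a regular ring. -/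
theorem isRegularRing_quotient_of_derivation {R : Type u} [CommRing R] [IsRegularRing R]
    (f : R) (D : Derivation ℤ R R) (hD : IsUnit (Ideal.Quotient.mk (span {f}) (D f))) :
    IsRegularRing (R ⧸ span ({f} : Set R)) := by
  have : IsNoetherianRing (R ⧸ span ({f} : Set R)) := isNoetherianRing_of_surjective R _ _ Ideal.Quotient.mk_surjective
  rw [isRegularRing_iff]
  intro P hP
  set q := P.comap (Ideal.Quotient.mk (span ({f} : Set R)))
  have hfq : f ∈ q := by
    rw [mem_comap, Ideal.Quotient.eq_zero_iff_mem.2 (mem_span_singleton_self f)]; exact zero_mem _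
  have hDq : D f ∉ q := fun h => hP.ne_top (eq_top_of_isUnit_mem _ h hD)
  have hfm : algebraMap R (Localization.AtPrime q) f ∈ maximalIdeal (Localization.AtPrime q) := by
    rw [← Localization.AtPrime.map_eq_maximalIdeal]; exact mem_map_of_mem _ hfq
  have hf2 : algebraMap R (Localization.AtPrime q) f ∉ maximalIdeal (Localization.AtPrime q) ^ 2 := by
    rw [← Localization.AtPrime.map_eq_maximalIdeal, ← Ideal.map_pow,
      IsLocalization.algebraMap_mem_map_algebraMap_iff q.primeCompl]
    rintro ⟨s, hs, hsf⟩
    have h1 := derivation_mem_of_mem_sq D hsf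
    rw [D.leibniz, smul_eq_mul, smul_eq_mul, q.add_mem_iff_left (mul_mem_right _ _ hfq)] at h1
    exact hDq ((IsPrime.mem_or_mem inferInstance h1).resolve_left hs)
  have := IsRegularRing.isRegularLocalRing_localization q
  obtain ⟨_, -⟩ := quotient_span_singleton hfm hf2
  have : IsRegularLocalRing (Localization.AtPrime q ⧸ (span ({f} : Set R)).map (algebraMap R (Localization.AtPrime q))) :=
    IsRegularLocalRing.of_ringEquiv (Ideal.quotEquivOfEq (by rw [map_span, Set.image_singleton]))
  exact isRegularLocalRing_localization_quotient _ P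

end Groth.Agent.RegLoc
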